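import Cfsg.Agent.Lib.FGS.MaxNormalizer.Defs
import Cfsg.Agent.Lib.Invol.Basic
import Cfsg.Agent.Lib.Invol.FusionBasics

/-!
S4233: normalizers in the almost simple case.
-/

set_option autoImplicit false
set_option linter.unusedSectionVars false

namespace CfsgLib.FGS.MaxNorm

open Subgroup
open scoped Pointwise

universe u

variable {A : Type u} [Group A] [Finite A] {S : Subgroup A}

theorem twoPrimes_of_dvd {H : Subgroup A} {p q i j : ℕ} (hp : p.Prime) (hq : q.Prime)
    (h : Nat.card H ∣ p ^ i * q ^ j) : TwoPrimes H :=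
  ⟨p, q, hp, hq, fun r hr hd => ((Nat.Prime.dvd_mul hr).1 (hd.trans h)).imp
    (fun e => (Nat.prime_dvd_prime_iff_eq hr hp).1 (hr.dvd_of_dvd_pow e))
    fun e => (Nat.prime_dvd_prime_iff_eq hr hq).1 (hr.dvd_of_dvd_pow e)⟩

theorem conj_mem_zpowers_pow {y n : A} (hn : n ∈ normalizer (zpowers y : Set A)) (d : ℕ) :
    n * y ^ d * n⁻¹ ∈ zpowers (y ^ d) := by
  obtain ⟨i, hi⟩ := mem_zpowers_iff.1 ((mem_normalizer_iff.1 hn y).1 (mem_zpowers y))
  refine mem_zpowers_iff.2 ⟨i, ?_⟩
  rw [← conj_pow, ← hi, ← zpow_natCast, ← zpow_natCast, ← zpow_mul, ← zpow_mul, mul_comm]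

theorem normalizer_zpowers_le_pow (y : A) (d : ℕ) :
    normalizer (zpowers y : Set A) ≤ normalizer (zpowers (y ^ d) : Set A) := fun n hn =>
  CfsgLib.Invol.mem_normalizer_iff_of_finite fun z hz => by
    obtain ⟨i, rfl⟩ := mem_zpowers_iff.1 hz
    rw [← conj_zpow]
    exact zpow_mem (conj_mem_zpowers_pow hn d) i

theorem normalizer_zpowers_invol {t : A} (ht : orderOf t = 2) :
    normalizer (zpowers t : Set A) = centralizer ({t} : Set A) := by
  ext n
  constructor
  · intro hn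
    obtain ⟨i, hi⟩ := mem_zpowers_iff.1 ((mem_normalizer_iff.1 hn t).1 (mem_zpowers t))
    rcases Int.even_or_odd' i with ⟨k, rfl | rfl⟩
    · rw [zpow_mul, show t ^ (2 : ℤ) = 1 from mod_cast ht ▸ pow_orderOf_eq_one t, one_zpow] at hi
      rw [conj_eq_one_iff.1 hi.symm, orderOf_one] at ht
      simp at ht
    · rw [zpow_add, zpow_mul, show t ^ (2 : ℤ) = 1 from mod_cast ht ▸ pow_orderOf_eq_one t, one_zpow,
        one_mul, zpow_one] at hi
      exact mem_centralizer_singleton_iff.2 (mul_inv_eq_iff_eq_mul.1 hi.symm)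
  · intro hn
    refine CfsgLib.Invol.mem_normalizer_iff_of_finite fun z hz => ?_
    obtain ⟨i, rfl⟩ := mem_zpowers_iff.1 hz
    rw [← conj_zpow, mem_centralizer_singleton_iff.1 hn, mul_inv_cancel_right]
    exact zpow_mem (mem_zpowers t) i

variable (c : Core A S)

include c

theorem Core.cI_ne_top {t : A} (ht : t ≠ 1) : centralizer ({t} : Set A) ≠ ⊤ := fun e => ht <| by
  rw [← mem_bot, ← c.cent]
  exact mem_centralizer_iff.2 fun x _ => mem_centralizer_singleton_iff.1 (e.symm ▸ mem_top x)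

theorem Core.normalizer_ne_top {H : Subgroup A} (hH : H ≠ ⊥) (h2 : TwoPrimes H) :
    normalizer (H : Set A) ≠ ⊤ :=
  (c.max H hH h2).1

/-- A maximal normalizer contained in a proper subgroup is that subgroup. -/
theorem Core.eq_of_le {H K : Subgroup A} (hH : H ≠ ⊥) (h2 : TwoPrimes H)
    (hle : normalizer (H : Set A) ≤ K) (hK : K ≠ ⊤) : normalizer (H : Set A) = K :=
  (((c.max H hH h2).le_iff.1 hle).resolve_left hK).symm

theorem Core.zpowers_two_primes {y : A} {r : ℕ} (hy : IsPrimePow r) (hord : orderOf y = r) :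
    zpowers y ≠ ⊥ ∧ TwoPrimes (zpowers y) := by
  obtain ⟨p, k, hp, -, rfl⟩ := (isPrimePow_nat_iff r).1 hy
  refine ⟨fun e => hy.ne_one ?_, twoPrimes_of_dvd (i := k) (j := 0) hp hp ?_⟩
  · rw [← hord, zpowers_eq_bot.1 e, orderOf_one]
  · rw [Nat.card_zpowers, hord, pow_zero, mul_one]

/-- B1: an involution and an element of odd prime power order commuting with it have one
normalizer. -/
theorem Core.cent_eq_normalizer {t y : A} (ht : orderOf t = 2) (hy : IsPrimePow (orderOf y))
    (hodd : Odd (orderOf y)) (hty : Commute t y) :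
    centralizer ({t} : Set A) = normalizer (zpowers y : Set A) := by
  have hcop : (orderOf t).Coprime (orderOf y) := ht ▸ Nat.coprime_two_left.2 hodd
  have hx := hty.orderOf_mul_eq_mul_orderOf_of_coprime hcop
  obtain ⟨p, k, hp, -, hk⟩ := (isPrimePow_nat_iff _).1 hy
  have hne : zpowers (t * y) ≠ ⊥ := fun e => by
    rw [zpowers_eq_bot.1 e, orderOf_one, ht] at hx
    omega
  have h2 : TwoPrimes (zpowers (t * y)) := twoPrimes_of_dvd (p := 2) (q := p) (i := 1) (j := k)
    Nat.prime_two hp (by rw [Nat.card_zpowers, hx, ht, hk, pow_one])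
  obtain ⟨m, hm⟩ := hodd
  have ht2 : t ^ 2 = 1 := ht ▸ pow_orderOf_eq_one t
  have e1 : (t * y) ^ orderOf y = t := by
    rw [hty.mul_pow, pow_orderOf_eq_one, mul_one, hm, pow_succ, pow_mul, ht2, one_pow, one_mul]
  have e2 : zpowers ((t * y) ^ 2) = zpowers y := by
    rw [hty.mul_pow, ht2, one_mul]
    refine le_antisymm (zpowers_le.2 (pow_mem (mem_zpowers y) 2)) (zpowers_le.2 ?_)
    refine mem_zpowers_iff.2 ⟨(m + 1 : ℕ), ?_⟩
    rw [zpow_natCast, ← pow_mul, show 2 * (m + 1) = orderOf y + 1 by omega, pow_succ, pow_orderOf_eq_one,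
      one_mul]
  have h3 := c.eq_of_le hne h2 ((normalizer_zpowers_le_pow _ (orderOf y)).trans_eq
    (by rw [e1, normalizer_zpowers_invol ht])) (c.cI_ne_top fun e => by simp [e] at ht)
  obtain ⟨hy1, hy2⟩ := c.zpowers_two_primes hy rfl
  have h4 := c.eq_of_le hne h2 ((normalizer_zpowers_le_pow _ 2).trans_eq (by rw [e2]))
    (c.normalizer_ne_top hy1 hy2)
  rw [← h3, h4]

/-- The elements of a dihedral group outside its cyclic part. -/
theorem Core.mem_dihedral {y s : A} (hs : orderOf s = 2) (hinv : s * y * s⁻¹ = y⁻¹) {x : A}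
    (hx : x ∈ zpowers y ⊔ zpowers s) :
    x ∈ zpowers y ∨ x * x = 1 ∧ x * s ∈ zpowers y := by
  have hn : zpowers s ≤ normalizer (zpowers y : Set A) := zpowers_le.2
    (CfsgLib.Invol.mem_normalizer_iff_of_finite fun z hz => by
      obtain ⟨i, rfl⟩ := mem_zpowers_iff.1 hz
      rw [← conj_zpow, hinv]
      exact zpow_mem (inv_mem (mem_zpowers y)) i)
  have hx' : x ∈ ((zpowers y : Subgroup A) : Set A) * (zpowers s : Set A) := by
    rw [← coe_mul_of_right_le_normalizer_left (zpowers y) (zpowers s) hn]; exact hx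
  obtain ⟨a, ha, b, hb, rfl⟩ := hx'
  obtain ⟨j, rfl⟩ := mem_zpowers_iff.1 hb
  have hs2 : s * s = 1 := by rw [← pow_two, ← hs]; exact pow_orderOf_eq_one s
  rcases Int.even_or_odd' j with ⟨k, rfl | rfl⟩
  · left
    show a * s ^ (2 * k) ∈ zpowers y
    rw [zpow_mul, show s ^ (2 : ℤ) = s * s from zpow_two s, hs2, one_zpow, mul_one]
    exact ha
  · right
    show a * s ^ (2 * k + 1) * (a * s ^ (2 * k + 1)) = 1 ∧ a * s ^ (2 * k + 1) * s ∈ zpowers y
    rw [zpow_add, zpow_mul, show s ^ (2 : ℤ) = s * s from zpow_two s, hs2, one_zpow, one_mul, zpow_one]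
    obtain ⟨i, rfl⟩ := mem_zpowers_iff.1 ha
    refine ⟨?_, by rw [mul_assoc, hs2, mul_one]; exact zpow_mem (mem_zpowers y) i⟩
    calc y ^ i * s * (y ^ i * s) = y ^ i * (s * y ^ i * s⁻¹) * (s * s) := by group
      _ = 1 := by rw [← conj_zpow, hinv, hs2, mul_one, inv_zpow, mul_inv_cancel]

/-- B2: a dihedral group is normal in the normalizer of its cyclic part. -/
theorem Core.normalizer_dihedral {y s : A} (hs : orderOf s = 2) (hinv : s * y * s⁻¹ = y⁻¹)
    (hy : IsPrimePow (orderOf y)) (h3 : 3 ≤ orderOf y) :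
    normalizer ((zpowers y ⊔ zpowers s : Subgroup A) : Set A) = normalizer (zpowers y : Set A) := by
  obtain ⟨hy1, hy2⟩ := c.zpowers_two_primes hy rfl
  obtain ⟨p, k, hp, -, hk⟩ := (isPrimePow_nat_iff _).1 hy
  refine c.eq_of_le (fun e => hy1 (le_bot_iff.1 (e ▸ le_sup_left)))
    (twoPrimes_of_dvd (p := p) (q := 2) (i := k) (j := 1) hp Nat.prime_two ?_)
    (fun n hn => CfsgLib.Invol.mem_normalizer_iff_of_finite fun z hz => ?_) (c.normalizer_ne_top hy1 hy2)
  · have hn : zpowers s ≤ normalizer (zpowers y : Set A) := zpowers_le.2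
      (CfsgLib.Invol.mem_normalizer_iff_of_finite fun z hz => by
        obtain ⟨i, rfl⟩ := mem_zpowers_iff.1 hz
        rw [← conj_zpow, hinv]
        exact zpow_mem (inv_mem (mem_zpowers y)) i)
    rw [hk, pow_one, show (2 : ℕ) = Nat.card (zpowers s) by rw [Nat.card_zpowers, hs],
      ← Nat.card_zpowers y, ← relIndex_bot_left, ← relIndex_mul_relIndex ⊥ (zpowers y) _ bot_le le_sup_left,
      relIndex_bot_left]
    refine mul_dvd_mul_left _ ?_
    haveI : ((zpowers y).subgroupOf (normalizer (zpowers y : Set A))).Normal := normal_in_normalizer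
    rw [← relIndex_subgroupOf (sup_le le_normalizer hn), subgroupOf_sup le_normalizer hn, relIndex_sup_left,
      relIndex_subgroupOf hn]
    exact relIndex_dvd_card ..
  · obtain ⟨i, rfl⟩ := mem_zpowers_iff.1 hz
    rw [← conj_zpow]
    refine zpow_mem ?_ i
    refine (c.mem_dihedral hs hinv ((mem_normalizer_iff.1 hn y).1 (mem_sup_left (mem_zpowers y)))).resolve_right
      fun h2 => ?_
    have h4 : orderOf (n * y * n⁻¹) ∣ 2 := orderOf_dvd_of_pow_eq_one (by rw [pow_two]; exact h2.1)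
    rw [CfsgLib.Invol.orderOf_conj_eq] at h4
    have := Nat.le_of_dvd two_pos h4
    omega

/-- B2: only index two occurs between dihedral groups. -/
theorem Core.dvd_two {y s : A} (hs : orderOf s = 2) (hinv : s * y * s⁻¹ = y⁻¹) {d : ℕ}
    (hd : d ∣ orderOf y) (hq : IsPrimePow (orderOf y / d)) (h3 : 3 ≤ orderOf y / d) : d ∣ 2 := by
  have hd0 : d ≠ 0 := fun e => (orderOf_pos y).ne' (by rw [e] at hd; exact Nat.eq_zero_of_zero_dvd hd)
  have ho : orderOf (y ^ d) = orderOf y / d := orderOf_pow_of_dvd hd0 hd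
  have hinv' : s * y ^ d * s⁻¹ = (y ^ d)⁻¹ := by rw [← conj_pow, hinv, inv_pow]
  have h := c.normalizer_dihedral hs hinv' (ho ▸ hq) (ho ▸ h3)
  have hy : y ∈ normalizer ((zpowers (y ^ d) ⊔ zpowers s : Subgroup A) : Set A) :=
    h ▸ normalizer_zpowers_le_pow y d (le_normalizer (mem_zpowers y))
  have h1 : y * s * y⁻¹ = y * y * s := by
    calc y * s * y⁻¹ = y * (s * y⁻¹ * s⁻¹) * s := by group
      _ = y * y * s := by rw [show s * y⁻¹ * s⁻¹ = (s * y * s⁻¹)⁻¹ by group, hinv, inv_inv]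
  have h2 := (mem_normalizer_iff.1 hy s).1 (mem_sup_right (mem_zpowers s))
  rw [h1] at h2
  rcases c.mem_dihedral hs hinv' h2 with h4 | h4
  · have hsy : s ∈ zpowers y := by
      rw [show s = (y * y)⁻¹ * (y * y * s) by group]
      exact mul_mem (inv_mem (mul_mem (mem_zpowers y) (mem_zpowers y)))
        ((zpowers_le.2 (pow_mem (mem_zpowers y) d)) h4)
    obtain ⟨i, rfl⟩ := mem_zpowers_iff.1 hsy
    rw [((Commute.refl y).zpow_left i).eq, mul_inv_cancel_right] at hinv
    have h5 : orderOf y ∣ 2 := orderOf_dvd_of_pow_eq_one (by rw [pow_two]; nth_rw 1 [hinv]; group)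
    have := Nat.le_of_dvd two_pos h5
    have := Nat.div_le_self (orderOf y) d
    omega
  · have h5 : y * y ∈ zpowers (y ^ d) := by
      have := h4.2
      rwa [mul_assoc, show s * s = 1 by rw [← pow_two, ← hs]; exact pow_orderOf_eq_one s, mul_one] at this
    have h6 := orderOf_dvd_of_mem_zpowers h5
    rw [ho, ← pow_two, orderOf_pow' y two_ne_zero] at h6
    have hgcd := Nat.gcd_dvd_right (orderOf y) 2
    obtain ⟨q, hq'⟩ := hd
    rw [hq', Nat.mul_div_cancel_left _ (Nat.pos_of_ne_zero hd0)] at h6 h3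
    have h7 : d * q ∣ q * Nat.gcd (orderOf y) 2 := by
      rw [← hq']
      have := Nat.mul_dvd_mul_right h6 (Nat.gcd (orderOf y) 2)
      rwa [← hq', Nat.div_mul_cancel (Nat.gcd_dvd_left _ _)] at this
    rw [mul_comm q] at h7
    exact (Nat.dvd_of_mul_dvd_mul_right (by omega) h7).trans hgcd

end CfsgLib.FGS.MaxNorm
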