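import Mathlib

/-!
Groups in which the subgroups with at most two prime divisors that are not subnormal have maximal
normalizers (S4233): the interfaces.
-/

set_option autoImplicit false

namespace CfsgLib.FGS.MaxNorm

open Subgroup

universe u

/-- The order has at most two prime divisors. -/
def TwoPrimes {G : Type u} [Group G] (H : Subgroup G) : Prop :=
  ∃ p q : ℕ, p.Prime ∧ q.Prime ∧ ∀ r : ℕ, r.Prime → r ∣ Nat.card H → r = p ∨ r = q

/-- The hypothesis of S4233. -/
def Hyp (G : Type u) [Group G] : Prop :=
  ∀ H : Subgroup G, ¬ H.IsSubnormal → TwoPrimes H → IsCoatom (normalizer (H : Set G))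

/-- An almost simple group satisfying the hypothesis: every nontrivial subgroup with at most two
prime divisors has a maximal normalizer. -/
structure Core (A : Type u) [Group A] [Finite A] (S : Subgroup A) : Prop where
  normal : S.Normal
  simple : IsSimpleGroup S
  noncomm : ¬ IsMulCommutative S
  cent : centralizer (S : Set A) = ⊥
  max : ∀ H : Subgroup A, H ≠ ⊥ → TwoPrimes H → IsCoatom (normalizer (H : Set A))

/-- The Sylow 2 piece: the socle is a linear group of dimension two. -/
def PslStmt : Prop :=
  ∀ (A : Type u) [Group A] [Finite A] (S : Subgroup A), Core A S →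
    ∃ (F : Type) (_ : Field F) (_ : Fintype F), 4 ≤ Fintype.card F ∧
      Nonempty (S ≃* Matrix.ProjectiveSpecialLinearGroup (Fin 2) F)

/-- The identification piece. -/
def ThirteenStmt : Prop :=
  ∀ (A : Type u) [Group A] [Finite A] (S : Subgroup A), Core A S →
    ∀ (F : Type) [Field F] [Fintype F], 4 ≤ Fintype.card F →
      Nonempty (S ≃* Matrix.ProjectiveSpecialLinearGroup (Fin 2) F) →
        S = ⊤ ∧ Nonempty (A ≃* Matrix.ProjectiveSpecialLinearGroup (Fin 2) (ZMod 13))

/-- The conclusion for the almost simple groups. -/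
def CoreStmt : Prop :=
  ∀ (A : Type u) [Group A] [Finite A] (S : Subgroup A), Core A S →
    Nonempty (A ≃* Matrix.ProjectiveSpecialLinearGroup (Fin 2) (ZMod 13))

theorem coreStmt_of_pieces (h1 : PslStmt.{u}) (h2 : ThirteenStmt.{u}) : CoreStmt.{u} := by
  intro A _ _ S c
  obtain ⟨F, iF, iFt, h4, e⟩ := h1 A S c
  exact (h2 A S c F h4 e).2

end CfsgLib.FGS.MaxNorm
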