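import Cfsg.Agent.Lib.FGS.MaxNormalizer.Basic
import Cfsg.Agent.Lib.Invol.CIT.Basic

/-!
S4233: the two-groups centralising an involution that commutes with an element of odd prime order.
-/

set_option autoImplicit false
set_option linter.unusedSectionVars false

namespace CfsgLib.FGS.MaxNorm

open Subgroup

universe u

variable {A : Type u} [Group A] [Finite A] {S : Subgroup A}

theorem commute_of_conj_eq {x y : A} (h : x * y * x⁻¹ = y) : Commute x y := mul_inv_eq_iff_eq_mul.1 h

theorem conj_eq_of_commute {x y : A} (h : Commute x y) : x * y * x⁻¹ = y :=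
  mul_inv_eq_iff_eq_mul.2 h.eq

variable (c : Core A S)

include c

theorem Core.isCoatom_cI {t : A} (ht : orderOf t = 2) : IsCoatom (centralizer ({t} : Set A)) := by
  obtain ⟨h1, h2⟩ := c.zpowers_two_primes (Nat.prime_two.isPrimePow) ht
  exact normalizer_zpowers_invol ht ▸ c.max _ h1 h2

theorem Core.normalizer_cI {t : A} (ht : orderOf t = 2) :
    normalizer (centralizer ({t} : Set A) : Set A) = centralizer ({t} : Set A) := by
  refine ((c.isCoatom_cI ht).le_iff.1 le_normalizer).resolve_left fun e => ?_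
  have hn : (centralizer ({t} : Set A)).Normal := normalizer_eq_top_iff.1 e
  haveI := c.simple
  haveI := c.normal
  rcases (hn.subgroupOf S).eq_bot_or_eq_top with h | h
  · have hdis : centralizer ({t} : Set A) ⊓ S = ⊥ := (subgroupOf_eq_bot.1 h).eq_bot
    have : t ∈ centralizer (S : Set A) := mem_centralizer_iff.2 fun x hx => by
      have := commute_of_normal_of_disjoint _ S hn c.normal (disjoint_iff.2 hdis) t x
        (mem_centralizer_singleton_iff.2 rfl) hx
      exact this.eq.symm
    rw [c.cent, mem_bot] at this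
    simp [this] at ht
  · have hle : S ≤ centralizer ({t} : Set A) := subgroupOf_eq_top.1 h
    have : t ∈ centralizer (S : Set A) := mem_centralizer_iff.2 fun x hx =>
      mem_centralizer_singleton_iff.1 (hle hx)
    rw [c.cent, mem_bot] at this
    simp [this] at ht

/-- The centralisers of distinct conjugates of an involution differ. -/
theorem Core.cI_conj_ne {t g : A} (ht : orderOf t = 2) (h : g * t * g⁻¹ ≠ t) :
    centralizer ({g * t * g⁻¹} : Set A) ≠ centralizer ({t} : Set A) := fun e => h <| by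
  have hg : g ∈ normalizer (centralizer ({t} : Set A) : Set A) :=
    CfsgLib.Invol.mem_normalizer_iff_of_finite fun x hx => by
      rw [← e, mem_centralizer_singleton_iff]
      have := mem_centralizer_singleton_iff.1 hx
      rw [show g * x * g⁻¹ * (g * t * g⁻¹) = g * (x * t) * g⁻¹ by group, this]
      group
  rw [c.normalizer_cI ht] at hg
  exact mul_inv_eq_iff_eq_mul.2 (mem_centralizer_singleton_iff.1 hg)

/-- An involution normalising a cyclic group of odd prime order fixes or inverts its generator. -/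
theorem Core.conj_cases {t y x : A} (ht : orderOf t = 2) (hy : (orderOf y).Prime) (hodd : Odd (orderOf y))
    (hty : Commute t y) (hx : x ∈ centralizer ({t} : Set A)) (hx2 : x * x = 1) :
    x * y * x⁻¹ = y ∨ x * y * x⁻¹ = y⁻¹ := by
  rw [c.cent_eq_normalizer ht hy.isPrimePow hodd hty] at hx
  obtain ⟨i, hi⟩ := mem_zpowers_iff.1 ((mem_normalizer_iff.1 hx y).1 (mem_zpowers y))
  have h2 : y ^ (i * i) = y := by
    rw [zpow_mul, hi, conj_zpow, hi]
    calc x * (x * y * x⁻¹) * x⁻¹ = (x * x) * y * (x * x)⁻¹ := by group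
      _ = y := by rw [hx2, inv_one, one_mul, mul_one]
  have h3 : ((orderOf y : ℕ) : ℤ) ∣ (i - 1) * (i + 1) := by
    rw [orderOf_dvd_iff_zpow_eq_one, show (i - 1) * (i + 1) = i * i - 1 by ring, zpow_sub, h2, zpow_one,
      mul_inv_cancel]
  rcases Int.Prime.dvd_mul' hy h3 with h | h
  · left
    rw [← hi]
    have := orderOf_dvd_iff_zpow_eq_one.1 h
    rw [zpow_sub, zpow_one, mul_inv_eq_one] at this
    exact this
  · right
    rw [← hi]
    have := orderOf_dvd_iff_zpow_eq_one.1 h
    rw [zpow_add, zpow_one] at this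
    exact eq_inv_of_mul_eq_one_left this

/-- The involutions of a 2-group centralising `t` are central in it. -/
theorem Core.comm_of_two_group {t y : A} (ht : orderOf t = 2) (hy : (orderOf y).Prime)
    (hodd : Odd (orderOf y)) (hty : Commute t y) {X : Subgroup A} (hX : IsPGroup 2 X)
    (hXt : X ≤ centralizer ({t} : Set A)) {s : A} (hsX : s ∈ X) (hs : orderOf s = 2) :
    ∀ x ∈ X, x * s = s * x := by
  intro x hx
  have hC := c.cent_eq_normalizer ht hy.isPrimePow hodd hty
  have hs2 := CfsgLib.Invol.invol_mul_self hs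
  rcases c.conj_cases ht hy hodd hty (hXt hsX) hs2 with h | h
  · have hC' := c.cent_eq_normalizer hs hy.isPrimePow hodd (commute_of_conj_eq h)
    exact mem_centralizer_singleton_iff.1 (hC'.trans hC.symm ▸ hXt hx)
  · have h3 : 3 ≤ orderOf y := by
      obtain ⟨j, hj⟩ := hodd
      have := hy.two_le
      omega
    have hn : x ∈ normalizer ((zpowers y ⊔ zpowers s : Subgroup A) : Set A) := by
      rw [c.normalizer_dihedral hs h hy.isPrimePow h3, ← hC]
      exact hXt hx
    rcases c.mem_dihedral hs h ((mem_normalizer_iff.1 hn s).1 (mem_sup_right (mem_zpowers s))) with h1 | ⟨-, h1⟩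
    · have := orderOf_dvd_of_mem_zpowers h1
      rw [CfsgLib.Invol.orderOf_conj_eq, hs] at this
      exact absurd hodd (Nat.not_odd_iff_even.2 (even_iff_two_dvd.2 this))
    · have h2 := CfsgLib.Invol.CIT.eq_one_of_mem_of_odd hX
        (mul_mem (mul_mem (mul_mem hx hsX) (inv_mem hx)) hsX)
        (hodd.of_dvd_nat (orderOf_dvd_of_mem_zpowers h1))
      rw [mul_eq_one_iff_eq_inv, CfsgLib.Invol.invol_inv hs] at h2
      exact mul_inv_eq_iff_eq_mul.1 h2

theorem Core.conj_comm {t y : A} (ht : orderOf t = 2) (hy : (orderOf y).Prime)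
    (hodd : Odd (orderOf y)) (hty : Commute t y) {a b : A} (ha : a ∈ centralizer ({t} : Set A))
    (hb : b ∈ centralizer ({t} : Set A)) : Commute ((b * a)⁻¹ * (a * b)) y := by
  rw [c.cent_eq_normalizer ht hy.isPrimePow hodd hty] at ha hb
  obtain ⟨i, hi⟩ := mem_zpowers_iff.1 ((mem_normalizer_iff.1 ha y).1 (mem_zpowers y))
  obtain ⟨j, hj⟩ := mem_zpowers_iff.1 ((mem_normalizer_iff.1 hb y).1 (mem_zpowers y))
  refine commute_of_conj_eq ?_
  have e1 : a * b * y * (a * b)⁻¹ = b * a * y * (b * a)⁻¹ := by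
    calc a * b * y * (a * b)⁻¹ = a * (b * y * b⁻¹) * a⁻¹ := by group
      _ = y ^ (i * j) := by rw [← hj, ← conj_zpow, ← hi, zpow_mul]
      _ = b * (a * y * a⁻¹) * b⁻¹ := by rw [← hi, ← conj_zpow, ← hj, ← zpow_mul, mul_comm]
      _ = b * a * y * (b * a)⁻¹ := by group
  calc (b * a)⁻¹ * (a * b) * y * ((b * a)⁻¹ * (a * b))⁻¹
      = (b * a)⁻¹ * (a * b * y * (a * b)⁻¹) * (b * a) := by group
    _ = y := by rw [e1]; group

/-- A 2-group centralising two involutions of one class, with different centralisers, each commuting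
with an element of odd prime order. -/
theorem Core.fused {z y g : A} (hz : orderOf z = 2) (hy : (orderOf y).Prime)
    (hodd : Odd (orderOf y)) (hzy : Commute z y) (hne : g * z * g⁻¹ ≠ z) {X : Subgroup A}
    (hX : IsPGroup 2 X) (hXz : X ≤ centralizer ({z} : Set A)) (hzX : z ∈ X) (hsX : g * z * g⁻¹ ∈ X) :
    (∀ a ∈ X, ∀ b ∈ X, a * b = b * a) ∧
      ∀ x ∈ X, orderOf x = 2 → x = z ∨ x = g * z * g⁻¹ ∨ x = z * (g * z * g⁻¹) := by
  set s := g * z * g⁻¹ with hs_def
  set ys := g * y * g⁻¹ with hys_def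
  have hs : orderOf s = 2 := (CfsgLib.Invol.orderOf_conj_eq g z).trans hz
  have hysp : (orderOf ys).Prime := by rw [hys_def, CfsgLib.Invol.orderOf_conj_eq]; exact hy
  have hyso : Odd (orderOf ys) := by rw [hys_def, CfsgLib.Invol.orderOf_conj_eq]; exact hodd
  have hsys : Commute s ys := by
    show g * z * g⁻¹ * (g * y * g⁻¹) = g * y * g⁻¹ * (g * z * g⁻¹)
    rw [show g * z * g⁻¹ * (g * y * g⁻¹) = g * (z * y) * g⁻¹ by group, hzy.eq]
    group
  have hXs : X ≤ centralizer ({s} : Set A) := fun x hx =>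
    mem_centralizer_singleton_iff.2 (c.comm_of_two_group hz hy hodd hzy hX hXz hsX hs x hx)
  have hdiff := c.cI_conj_ne hz hne
  have hfree : ∀ x ∈ X, Commute x y → Commute x ys → x = 1 := by
    intro x hx h1 h2
    by_contra hx1
    obtain ⟨w, hwx, hw⟩ := CfsgLib.Invol.CIT.exists_invol_zpowers
      (CfsgLib.Invol.CIT.exists_two_pow_of_mem hX hx) hx1
    obtain ⟨i, rfl⟩ := mem_zpowers_iff.1 hwx
    have e1 := c.cent_eq_normalizer hw hy.isPrimePow hodd (h1.zpow_left i)
    have e2 := c.cent_eq_normalizer hw hysp.isPrimePow hyso (h2.zpow_left i)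
    apply hdiff
    rw [c.cent_eq_normalizer hz hy.isPrimePow hodd hzy,
      c.cent_eq_normalizer hs hysp.isPrimePow hyso hsys, ← e1, ← e2]
  refine ⟨fun a ha b hb => ?_, fun x hx hxo => ?_⟩
  · have := hfree _ (mul_mem (inv_mem (mul_mem hb ha)) (mul_mem ha hb))
      (c.conj_comm hz hy hodd hzy (hXz ha) (hXz hb)) (c.conj_comm hs hysp hyso hsys (hXs ha) (hXs hb))
    exact (inv_mul_eq_one.1 this).symm
  · have hz2 := CfsgLib.Invol.invol_mul_self hz
    have hs2 := CfsgLib.Invol.invol_mul_self hs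
    have hx2 := CfsgLib.Invol.invol_mul_self hxo
    have hzinv : z * ys * z⁻¹ = ys⁻¹ := (c.conj_cases hs hysp hyso hsys (hXs hzX) hz2).resolve_left
      fun h => CfsgLib.Invol.invol_ne_one hz (hfree z hzX hzy (commute_of_conj_eq h))
    have hsinv : s * y * s⁻¹ = y⁻¹ := (c.conj_cases hz hy hodd hzy (hXz hsX) hs2).resolve_left
      fun h => CfsgLib.Invol.invol_ne_one hs (hfree s hsX (commute_of_conj_eq h) hsys)
    have hmul : ∀ {a b w : A}, a * w * a⁻¹ = w⁻¹ → b * w * b⁻¹ = w⁻¹ → Commute (a * b) w := by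
      intro a b w ha hb
      refine commute_of_conj_eq ?_
      calc a * b * w * (a * b)⁻¹ = a * (b * w * b⁻¹) * a⁻¹ := by group
        _ = (a * w * a⁻¹)⁻¹ := by rw [hb]; group
        _ = w := by rw [ha, inv_inv]
    have hfix : ∀ {w : A}, w ∈ X → orderOf w = 2 → x * w = 1 → x = w := fun hw hwo h => by
      rw [mul_eq_one_iff_eq_inv.1 h, CfsgLib.Invol.invol_inv hwo]
    rcases c.conj_cases hz hy hodd hzy (hXz hx) hx2 with h1 | h1 <;>
      rcases c.conj_cases hs hysp hyso hsys (hXs hx) hx2 with h2 | h2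
    · exact absurd (hfree x hx (commute_of_conj_eq h1) (commute_of_conj_eq h2)) (CfsgLib.Invol.invol_ne_one hxo)
    · exact Or.inl (hfix hzX hz (hfree _ (mul_mem hx hzX) ((commute_of_conj_eq h1).mul_left hzy) (hmul h2 hzinv)))
    · exact Or.inr (Or.inl (hfix hsX hs (hfree _ (mul_mem hx hsX) (hmul h1 hsinv)
        ((commute_of_conj_eq h2).mul_left hsys))))
    · refine Or.inr (Or.inr ?_)
      have hzs : z * s = s * z := (c.comm_of_two_group hz hy hodd hzy hX hXz hsX hs z hzX)
      have h3 : (z * s) * y * (z * s)⁻¹ = y⁻¹ := by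
        calc (z * s) * y * (z * s)⁻¹ = z * (s * y * s⁻¹) * z⁻¹ := by group
          _ = (z * y * z⁻¹)⁻¹ := by rw [hsinv]; group
          _ = y⁻¹ := by rw [conj_eq_of_commute hzy]
      have h4 : (z * s) * ys * (z * s)⁻¹ = ys⁻¹ := by
        calc (z * s) * ys * (z * s)⁻¹ = z * (s * ys * s⁻¹) * z⁻¹ := by group
          _ = ys⁻¹ := by rw [conj_eq_of_commute hsys, hzinv]
      have h5 := hfree _ (mul_mem hx (mul_mem hzX hsX)) (hmul h1 h3) (hmul h2 h4)
      rw [mul_eq_one_iff_eq_inv.1 h5, mul_inv_rev, CfsgLib.Invol.invol_inv hz, CfsgLib.Invol.invol_inv hs, hzs]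

end CfsgLib.FGS.MaxNorm
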