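import Cfsg.Agent.Lib.GW.SimpleGW
import Cfsg.Agent.Lib.InvolConj.Homocyclic
import Cfsg.Agent.Lib.InvChar.SimpleInvol
import Cfsg.Agent.Lib.Transfer.Focal
import Cfsg.Agent.S0949

/-!
Simple groups with abelian Sylow 2-subgroups containing three involutions.
-/

set_option autoImplicit false
set_option linter.unusedSectionVars false

namespace CfsgLib.FGS.MaxNorm

open Subgroup

universe u

theorem sq_ker_card_two {m : ℕ} (hm : 1 ≤ m) :
    Nat.card {a : Multiplicative (ZMod (2 ^ m)) // a ^ 2 = 1} = 2 := by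
  haveI : NeZero (2 ^ m) := ⟨by positivity⟩
  calc Nat.card {a : Multiplicative (ZMod (2 ^ m)) // a ^ 2 = 1}
      = Nat.card (powMonoidHom 2 : Multiplicative (ZMod (2 ^ m)) →* _).ker :=
        Nat.card_congr (Equiv.subtypeEquivRight fun a => by simp [MonoidHom.mem_ker])
    _ = 2 := by
      rw [IsCyclic.card_powMonoidHom_ker, Nat.card_congr Multiplicative.toAdd, Nat.card_zmod]
      exact Nat.gcd_eq_right (dvd_pow_self 2 (by omega))

theorem two_nsmul_two : ∀ a : ZMod (2 ^ 1), 2 • a = 0 := by decide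

variable {G : Type u} [Group G] [Finite G] [IsSimpleGroup G]

theorem psl_of_abelian_three (hG : ¬ IsMulCommutative G) (S : Sylow 2 G)
    (hab : ∀ a ∈ (S : Subgroup G), ∀ b ∈ (S : Subgroup G), a * b = b * a) {z v : G}
    (hz : orderOf z = 2) (hzS : z ∈ (S : Subgroup G)) (hv : orderOf v = 2) (hvS : v ∈ (S : Subgroup G))
    (hzv : z ≠ v) (hthree : ∀ x ∈ (S : Subgroup G), orderOf x = 2 → x = z ∨ x = v ∨ x = z * v) :
    ∃ (F : Type) (_ : Field F) (_ : Fintype F), 4 ≤ Fintype.card F ∧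
      Nonempty (G ≃* Matrix.ProjectiveSpecialLinearGroup (Fin 2) F) := by
  haveI : Fact (Nat.Prime 2) := ⟨Nat.prime_two⟩
  haveI : IsMulCommutative (S : Subgroup G) := ⟨⟨fun a b => Subtype.ext (hab a a.2 b b.2)⟩⟩
  letI : CommGroup (S : Subgroup G) := { (inferInstance : Group (S : Subgroup G)) with
    mul_comm := fun a b => Subtype.ext (hab a a.2 b b.2) }
  set zs : (S : Subgroup G) := ⟨z, hzS⟩ with hzs
  set vs : (S : Subgroup G) := ⟨v, hvS⟩ with hvs
  haveI : Nontrivial (S : Subgroup G) := ⟨⟨zs, 1, fun e =>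
    CfsgLib.Invol.invol_ne_one hz (congrArg Subtype.val e)⟩⟩
  -- every involution has another conjugate under the automorphisms
  let Rel : ↥(S : Subgroup G) → ↥(S : Subgroup G) → Prop := fun a b => ∃ φ : MulAut (S : Subgroup G), φ a = b
  have hrefl : ∀ a, Rel a a := fun a => ⟨1, rfl⟩
  have hsymm : ∀ {a b}, Rel a b → Rel b a := fun {a b} ⟨φ, hφ⟩ => ⟨φ.symm, by rw [← hφ, φ.symm_apply_apply]⟩
  have htr : ∀ {a b d}, Rel a b → Rel b d → Rel a d := fun {a b d} ⟨φ, hφ⟩ ⟨ψ, hψ⟩ =>
    ⟨φ.trans ψ, by rw [MulEquiv.trans_apply, hφ, hψ]⟩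
  have hI : ∀ a : (S : Subgroup G), a ≠ 1 → a ^ 2 = 1 → a = zs ∨ a = vs ∨ a = zs * vs := by
    intro a ha ha2
    rcases hthree a a.2 (by
      rw [Subgroup.orderOf_coe]; exact orderOf_eq_prime ha2 ha) with e | e | e
    · exact Or.inl (Subtype.ext e)
    · exact Or.inr (Or.inl (Subtype.ext e))
    · exact Or.inr (Or.inr (Subtype.ext e))
  have hmove : ∀ a : (S : Subgroup G), a ≠ 1 → a ^ 2 = 1 → ∃ b, Rel a b ∧ b ≠ a ∧ (b = zs ∨ b = vs ∨ b = zs * vs) := by
    intro a ha ha2
    obtain ⟨w, hw, hwS, hwa⟩ := CfsgLib.InvChar.exists_other_conj_mem_sylow hG S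
      (u := (a : G)) (by rw [Subgroup.orderOf_coe]; exact orderOf_eq_prime ha2 ha) a.2
    obtain ⟨g, hg⟩ := isConj_iff.1 hw
    obtain ⟨n, hn, hna⟩ := CfsgLib.Transfer.abelian_sylow_controls S a a.2 g (hg.symm ▸ hwS)
    let φ : MulAut (S : Subgroup G) := Subgroup.normalizerMonoidHom (S : Subgroup G) ⟨n, hn⟩
    have hφ : (φ a : G) = w := by
      show n * (a : G) * n⁻¹ = w
      rw [hna, hg]
    refine ⟨φ a, ⟨φ, rfl⟩, fun e => hwa ?_, hI _ ?_ ?_⟩
    · rw [← hφ, e]
    · exact fun e => ha (φ.injective (by rw [e, map_one]))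
    · rw [← map_pow, ha2, map_one]
  have hz2 : zs ^ 2 = 1 := Subtype.ext (by
    show z ^ 2 = 1; rw [← hz]; exact pow_orderOf_eq_one z)
  have hv2 : vs ^ 2 = 1 := Subtype.ext (by
    show v ^ 2 = 1; rw [← hv]; exact pow_orderOf_eq_one v)
  have hz1 : zs ≠ 1 := fun e => CfsgLib.Invol.invol_ne_one hz (congrArg Subtype.val e)
  have hv1 : vs ≠ 1 := fun e => CfsgLib.Invol.invol_ne_one hv (congrArg Subtype.val e)
  have hzvs : zs ≠ vs := fun e => hzv (congrArg Subtype.val e)
  have hw2 : (zs * vs) ^ 2 = 1 := by rw [mul_pow, hz2, hv2, one_mul]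
  have hw1 : zs * vs ≠ 1 := fun e => hzvs (by
    rw [mul_eq_one_iff_eq_inv.1 e]
    exact inv_eq_of_mul_eq_one_right (by rw [← pow_two, hv2]))
  have hzz : ∀ b, (b = zs ∨ b = vs ∨ b = zs * vs) → Rel zs b := by
    obtain ⟨a, ha, ha', haI⟩ := hmove zs hz1 hz2
    obtain ⟨b, hb, hb', hbI⟩ := hmove vs hv1 hv2
    obtain ⟨d, hd, hd', hdI⟩ := hmove (zs * vs) hw1 hw2
    intro x hx
    rcases haI with e | e | e <;> subst e <;> try exact absurd rfl ha'
    · rcases hdI with e | e | e <;> subst e <;> try exact absurd rfl hd'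
      · rcases hx with rfl | rfl | rfl
        exacts [hrefl _, ha, hsymm hd]
      · rcases hx with rfl | rfl | rfl
        exacts [hrefl _, ha, htr ha (hsymm hd)]
    · rcases hbI with e | e | e <;> subst e <;> try exact absurd rfl hb'
      · rcases hx with rfl | rfl | rfl
        exacts [hrefl _, hsymm hb, ha]
      · rcases hx with rfl | rfl | rfl
        exacts [hrefl _, htr ha (hsymm hb), ha]
  obtain ⟨m, r, ⟨e⟩⟩ := CfsgLib.InvolConj.exists_homocyclic_equiv S.isPGroup' fun x y hx hx2 hy hy2 =>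
    htr (hsymm (hzz x (hI x hx hx2))) (hzz y (hI y hy hy2))
  have hm : 1 ≤ m := by
    by_contra h0
    obtain rfl : m = 0 := by omega
    refine hz1 (e.injective (funext fun i => ?_))
    exact Multiplicative.toAdd.injective (Subsingleton.elim (α := ZMod 1) _ _)
  have hcount : Nat.card {x : (S : Subgroup G) // x ^ 2 = 1} = 4 := by
    classical
    rw [show {x : (S : Subgroup G) // x ^ 2 = 1} = ({x | x ^ 2 = 1} : Set (S : Subgroup G)) from rfl,
      Nat.card_coe_set_eq, show ({x | x ^ 2 = 1} : Set (S : Subgroup G)) = {1, zs, vs, zs * vs} from ?_]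
    · rw [Set.ncard_insert_of_notMem (by simp [hz1.symm, hv1.symm, Ne.symm hw1]),
        Set.ncard_insert_of_notMem (by simp [hzvs, hv1]),
        Set.ncard_pair (fun h => hz1 (by simpa using h.symm))]
    · ext x
      refine ⟨fun hx => ?_, ?_⟩
      · rcases eq_or_ne x 1 with rfl | hx1
        · simp
        · rcases hI x hx1 hx with h | h | h <;> simp [h]
      · rintro (rfl | rfl | rfl | rfl) <;> simp [hz2, hv2, hw2]
  have hr : r = 2 := by
    let E : {x : (S : Subgroup G) // x ^ 2 = 1} ≃ (Fin r → {a : Multiplicative (ZMod (2 ^ m)) // a ^ 2 = 1}) :=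
      (Equiv.subtypeEquiv e.toEquiv fun x => by
        show x ^ 2 = 1 ↔ ∀ i, (e x i) ^ 2 = 1
        rw [← e.map_eq_one_iff, map_pow, funext_iff]; rfl).trans
        (Equiv.subtypePiEquivPi)
    rw [Nat.card_congr E, Nat.card_pi, Finset.prod_const, Finset.card_univ, Fintype.card_fin,
      sq_ker_card_two hm] at hcount
    exact Nat.pow_right_injective le_rfl (hcount.trans (by norm_num : 4 = 2 ^ 2))
  subst hr
  have h2G : 2 ∣ Nat.card G := hz ▸ orderOf_dvd_natCard z
  rcases Nat.lt_or_ge m 2 with hm2 | hm2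
  · obtain rfl : m = 1 := by omega
    have hScard : Nat.card (S : Subgroup G) = 4 := by
      rw [Nat.card_congr e.toEquiv, Nat.card_pi, Finset.prod_const, Finset.card_univ, Fintype.card_fin,
        Nat.card_congr Multiplicative.toAdd, Nat.card_zmod]; rfl
    have hsq : ∀ x : (S : Subgroup G), x ^ 2 = 1 := fun x => e.injective (by
      rw [map_pow, map_one]
      funext i
      exact Multiplicative.toAdd.injective (two_nsmul_two _))
    have hzp : ∀ {x : (S : Subgroup G)}, x ∈ zpowers zs → x = 1 ∨ x = zs := fun {x} hx => by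
      obtain ⟨i, rfl⟩ := mem_zpowers_iff.1 hx
      rcases Int.even_or_odd' i with ⟨k, rfl | rfl⟩
      · left; rw [zpow_mul, zpow_two, ← pow_two, hz2, one_zpow]
      · right; rw [zpow_add, zpow_mul, zpow_two, ← pow_two, hz2, one_zpow, one_mul, zpow_one]
    have D : CfsgLib.Invol.DihData (S : Subgroup G) :=
      { h := 1
        r := zs
        s := vs
        h_pos := one_pos
        h_pow := ⟨0, rfl⟩
        orderOf_r := orderOf_eq_prime hz2 hz1
        orderOf_s := orderOf_eq_prime hv2 hv1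
        conj_r := by
          rw [mul_comm vs zs, mul_inv_cancel_right]
          exact (inv_eq_of_mul_eq_one_right (by rw [← pow_two, hz2])).symm
        s_notMem := fun h => (hzp h).elim hv1 fun h => hzvs h.symm
        cases := fun u => by
          rcases eq_or_ne u 1 with rfl | hu
          · exact Or.inl ⟨0, by simp⟩
          rcases hI u hu (hsq u) with rfl | rfl | rfl
          · exact Or.inl ⟨1, by simp⟩
          · exact Or.inr ⟨0, by simp⟩
          · exact Or.inr ⟨1, by simp⟩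
        card_eq := hScard }
    rcases CfsgLib.GW.simpleGW (Nat.card G) G inferInstance hG le_rfl S ⟨D⟩ with
      ⟨F, iF, iFt, -, h3, hiso⟩ | hf
    · exact ⟨F, iF, iFt, h3, hiso⟩
    · exfalso
      obtain ⟨f⟩ := hf
      have h8 : 2 ^ 3 ∣ Nat.card (S : Subgroup G) := S.pow_dvd_card_of_pow_dvd_card (n := 3) (by
        rw [Nat.card_congr f.toEquiv, nat_card_alternatingGroup, Nat.card_fin]; decide)
      rw [hScard] at h8
      norm_num at h8
  · exfalso
    let e2 : (S : Subgroup G) ≃* Multiplicative (ZMod (2 ^ m) × ZMod (2 ^ m)) :=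
      e.trans { toEquiv := (piFinTwoEquiv _).trans
                  ((Equiv.prodCongr Multiplicative.toAdd Multiplicative.toAdd).trans Multiplicative.ofAdd)
                map_mul' := fun a b => rfl }
    obtain ⟨hn, -, -⟩ := Cfsg.Agent.S0949.result S m hm2 e2 fun N hN ho =>
      hN.eq_bot_or_eq_top.resolve_right fun h => by
        rw [h, Subgroup.card_top] at ho
        exact Nat.not_even_iff_odd.2 ho (even_iff_two_dvd.2 h2G)
    rcases hn.eq_bot_or_eq_top with h | h
    · exact hz1 (Subtype.ext (mem_bot.1 (h ▸ hzS)))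
    · exact hG ⟨⟨fun a b => hab a (h ▸ mem_top a) b (h ▸ mem_top b)⟩⟩

end CfsgLib.FGS.MaxNorm
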