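import Cfsg.Agent.Lib.ClassK.SmallSimple
import Cfsg.Agent.Lib.Classical.PSLTwoPerm

/-!
S4233: the facts about `PSL₂(13)` used by the lifting step.
-/

set_option autoImplicit false
set_option maxRecDepth 100000
set_option linter.style.haveILetI false

namespace CfsgLib.FGS.MaxNorm

open Subgroup

/-- The simple group of the statement. -/
abbrev L13 : Type := Matrix.ProjectiveSpecialLinearGroup (Fin 2) (ZMod 13)

/-- Its cover. -/
abbrev S13 : Type := Matrix.SpecialLinearGroup (Fin 2) (ZMod 13)

instance factPrime13 : Fact (Nat.Prime 13) := ⟨by norm_num⟩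

theorem isSimple_L13 : IsSimpleGroup L13 :=
  CfsgLib.ClassK.isSimpleGroup_psl_two (F := ZMod 13) (by rw [ZMod.card]; norm_num)

theorem card_L13 : Nat.card L13 = 1092 :=
  CfsgLib.Classical.card_psl_two_eq (F := ZMod 13) (ZMod.card 13) 1092 (by norm_num)

theorem not_solvable_L13 : ¬ Group.IsSolvable L13 := fun hs => by
  haveI := isSimple_L13
  letI : CommGroup L13 :=
    { (inferInstance : Group L13) with mul_comm := IsSimpleGroup.comm_iff_isSolvable.2 hs }
  have hp : (Nat.card L13).Prime := IsSimpleGroup.prime_card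
  rw [card_L13] at hp
  norm_num at hp

theorem perfect_L13 : commutator L13 = ⊤ := by
  haveI := isSimple_L13
  exact (IsSimpleGroup.eq_bot_or_eq_top_of_normal (commutator L13) inferInstance).resolve_left fun e =>
    not_solvable_L13 ((Group.isSolvable_def _).2 ⟨1, by rw [derivedSeries_one]; exact e⟩)

/-- The class of a matrix. -/
noncomputable abbrev cls (g : S13) : L13 := QuotientGroup.mk' (center S13) g

theorem cls_eq_one {g : S13} (h : (g : Matrix (Fin 2) (Fin 2) (ZMod 13)) = 1 ∨
    (g : Matrix (Fin 2) (Fin 2) (ZMod 13)) = Matrix.scalar (Fin 2) 12) : cls g = 1 := by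
  refine (QuotientGroup.eq_one_iff _).2 (Matrix.SpecialLinearGroup.mem_center_iff.2 ?_)
  rcases h with h | h
  · exact ⟨1, one_pow _, by rw [h, map_one]⟩
  · exact ⟨12, by decide, h.symm⟩

theorem cls_ne_one {g : S13} {w : S13} (h : g * w ≠ w * g) : cls g ≠ 1 := fun e =>
  h (mem_center_iff.1 ((QuotientGroup.eq_one_iff _).1 e) w).symm

/-- An element inverting a torus. -/
def mW : S13 := ⟨!![0, 1; 12, 0], by decide +kernel⟩

/-- An element of order three. -/
def mT : S13 := ⟨!![3, 0; 0, 9], by decide +kernel⟩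

/-- An element of order seven. -/
def mS : S13 := ⟨!![0, 5; 5, 7], by decide +kernel⟩

/-- An element of order thirteen. -/
def mU : S13 := ⟨!![1, 1; 0, 1], by decide +kernel⟩

/-- An element inverting it. -/
def mD : S13 := ⟨!![5, 0; 0, 8], by decide +kernel⟩

/-- An element permuting a four group. -/
def mG : S13 := ⟨!![2, 1; 6, 10], by decide +kernel⟩

/-- Elements of the three odd prime orders, each inverted by some element. -/
theorem exists_inverted {l : ℕ} (hl : l = 3 ∨ l = 7 ∨ l = 13) :
    ∃ y k : L13, orderOf y = l ∧ k * y * k⁻¹ = y⁻¹ := by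
  rcases hl with rfl | rfl | rfl
  · haveI : Fact (Nat.Prime 3) := ⟨by norm_num⟩
    refine ⟨cls mT, cls mW, orderOf_eq_prime ?_ (cls_ne_one (w := mW) (by decide +kernel)),
      eq_inv_of_mul_eq_one_left ?_⟩
    · rw [← map_pow]; exact cls_eq_one (Or.inl (by decide +kernel))
    · rw [← map_inv, ← map_mul, ← map_mul, ← map_mul]; exact cls_eq_one (Or.inl (by decide +kernel))
  · haveI : Fact (Nat.Prime 7) := ⟨by norm_num⟩
    refine ⟨cls mS, cls mW, orderOf_eq_prime ?_ (cls_ne_one (w := mW) (by decide +kernel)),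
      eq_inv_of_mul_eq_one_left ?_⟩
    · rw [← map_pow]; exact cls_eq_one (Or.inl (by decide +kernel))
    · rw [← map_inv, ← map_mul, ← map_mul, ← map_mul]; exact cls_eq_one (Or.inl (by decide +kernel))
  · refine ⟨cls mU, cls mD, orderOf_eq_prime ?_ (cls_ne_one (w := mW) (by decide +kernel)),
      eq_inv_of_mul_eq_one_left ?_⟩
    · rw [← map_pow]; exact cls_eq_one (Or.inl (by decide +kernel))
    · rw [← map_inv, ← map_mul, ← map_mul, ← map_mul]; exact cls_eq_one (Or.inl (by decide +kernel))

/-- A four group permuted cyclically by some element. -/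
theorem exists_four : ∃ a b k : L13, orderOf a = 2 ∧ orderOf b = 2 ∧ a * b = b * a ∧ a ≠ b ∧
    k * a * k⁻¹ = b ∧ k * b * k⁻¹ = a * b := by
  set j : S13 := mG * mD * mG⁻¹ with hj
  refine ⟨cls mD, cls j, cls mG, ?_, ?_, ?_, ?_, ?_, ?_⟩
  · exact orderOf_eq_prime (by rw [← map_pow]; exact cls_eq_one (Or.inr (by decide +kernel)))
      (cls_ne_one (w := mW) (by decide +kernel))
  · exact orderOf_eq_prime (by rw [← map_pow]; exact cls_eq_one (Or.inr (by rw [hj]; decide +kernel)))
      (cls_ne_one (w := mD) (by rw [hj]; decide +kernel))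
  · rw [← mul_inv_eq_one, ← map_mul, ← map_mul, ← map_inv, ← map_mul]
    exact cls_eq_one (Or.inr (by rw [hj]; decide +kernel))
  · intro e
    rw [← mul_inv_eq_one, ← map_inv, ← map_mul] at e
    exact cls_ne_one (w := mW) (by rw [hj]; decide +kernel) e
  · rw [hj]; simp only [cls, map_mul, map_inv]
  · rw [← mul_inv_eq_one, ← map_inv, ← map_mul, ← map_mul, ← map_mul, ← map_inv, ← map_mul]
    exact cls_eq_one (Or.inr (by rw [hj]; decide +kernel))

end CfsgLib.FGS.MaxNorm
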