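import Cfsg.Agent.Lib.Invol.CIT.Main
import Cfsg.Agent.Lib.Invol.Simple

/-!
Simple CIT groups with self-normalizing Sylow 2-subgroups are linear of dimension two.
-/

set_option autoImplicit false
set_option linter.unusedSectionVars false

namespace CfsgLib.FGS.MaxNorm

open Subgroup CfsgLib.Invol CfsgLib.Invol.CIT CfsgLib.PLocal
open CfsgLib.Recog.EPPOSeven (twoPoint)
open scoped MatrixGroups Pointwise

universe u

theorem sylow_abelian_selfNorm_ne {Q : Type*} [Group Q] [Finite Q] (hperf : commutator Q = ⊤)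
    (h2 : 2 ∣ Nat.card Q) (P : Sylow 2 Q) (hab : ∀ a ∈ (P : Subgroup Q), ∀ b ∈ (P : Subgroup Q), a * b = b * a) :
    normalizer ((P : Subgroup Q) : Set Q) ≠ (P : Subgroup Q) := fun e => by
  haveI : Fact (Nat.Prime 2) := ⟨Nat.prime_two⟩
  have hP : normalizer ((P : Subgroup Q) : Set Q) ≤ centralizer ((P : Subgroup Q) : Set Q) := fun a ha =>
    mem_centralizer_iff.2 fun b hb => hab b hb a (e ▸ ha)
  letI : CommGroup (P : Subgroup Q) := { (inferInstance : Group (P : Subgroup Q)) with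
    mul_comm := fun a b => Subtype.ext (hab a a.2 b b.2) }
  have hk : (MonoidHom.transferSylow P hP).ker = ⊤ :=
    eq_top_iff.2 (hperf ▸ Abelianization.commutator_subset_ker _)
  have h := MonoidHom.ker_transferSylow_isComplement' P hP
  rw [hk, isComplement'_top_left] at h
  have hd := Sylow.card_eq_multiplicity P
  rw [h, Subgroup.card_bot] at hd
  have := (Nat.Prime.factorization_pos_of_dvd Nat.prime_two Nat.card_pos.ne' h2)
  exact absurd hd (Nat.one_lt_pow this.ne' one_lt_two).ne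

variable {G : Type u} [Group G] [Finite G] [IsSimpleGroup G]

/-- No strongly embedded subgroup. -/
theorem se_false (hna : ∃ a b : G, a * b ≠ b * a)
    (hc : IsCIT G) (hself : ∀ T : Sylow 2 G, normalizer ((T : Subgroup G) : Set G) = (T : Subgroup G))
    {K : Subgroup G} (hK : Cfsg.IsStronglyEmbedded K) : False := by
  have h : SEHyp K := ⟨hc, hK⟩
  obtain ⟨T0, z, hz, hzT, hC, hT0⟩ := h.exists_sylow
  obtain ⟨t, ht, hto, htz⟩ := h.two_invol hna hz hzT hC
  obtain ⟨-, T, β, hβ, -, hnorm, -, hodd⟩ := h.exists_kernel hna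
  have hKT : K ≤ (T : Subgroup G) := hself T ▸ fun k hk =>
    mem_normalizer_iff_of_finite (hnorm k hk)
  have htp : twoPoint K β ≤ (T : Subgroup G) := fun d hd => hKT hd.1
  have h1 : Nat.card (twoPoint K β) = 1 := by
    obtain ⟨k, hk⟩ := IsPGroup.iff_card.1 (T.isPGroup'.to_le htp)
    rcases k with _ | k
    · rw [hk, pow_zero]
    · rw [hk] at hodd
      exact absurd hodd (Nat.not_odd_iff_even.2 ((Nat.even_pow' (by omega)).2 even_two))
  rw [h.card_twoPoint hβ, Nat.card_eq_one_iff_unique] at h1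
  exact htz (congrArg Subtype.val
    (h1.1.elim (⟨t, hto, hT0 ht⟩ : {i : G // orderOf i = 2 ∧ i ∈ K}) ⟨z, hz, hT0 hzT⟩))

/-- No configuration with a local quotient `SL₂(4)`. -/
theorem large_false (hna : ∃ a b : G, a * b ≠ b * a) (hc : IsCIT G)
    (hself : ∀ T : Sylow 2 G, normalizer ((T : Subgroup G) : Set G) = (T : Subgroup G))
    {S : Sylow 2 G} {R A : Subgroup G} {q : ℕ} {K : Type} [Field K] [Fintype K]
    (h : Large S R A q K) (hA : A ∈ maxElemIn 2 ((S : Subgroup G) ⊓ normalizer (R : Set G))) :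
    False := by
  haveI : Fact (Nat.Prime 2) := ⟨Nat.prime_two⟩
  have hq := h.eq_four hna hc hA
  have hPS := h.sylow_eq hna hc hA hq
  obtain ⟨e⟩ := h.iso
  set N := normalizer (R : Set G) with hN
  haveI : (R.subgroupOf N).Normal := normal_in_normalizer
  set φ := e.toMonoidHom.comp (QuotientGroup.mk' (R.subgroupOf N)) with hφ
  have hφs : Function.Surjective φ := e.surjective.comp (QuotientGroup.mk'_surjective _)
  have hker : ∀ w : N, φ w = 1 ↔ (w : G) ∈ R := fun w => by
    rw [hφ, MonoidHom.comp_apply, MulEquiv.coe_toMonoidHom, map_eq_one_iff e e.injective,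
      QuotientGroup.mk'_apply, QuotientGroup.eq_one_iff, mem_subgroupOf]
  have hSN : (S : Subgroup G) ≤ N := hPS ▸ inf_le_right
  let P : Sylow 2 SL(2, K) := (S.subtype hSN).mapSurjective hφs
  have hPmem : ∀ {x : SL(2, K)}, x ∈ (P : Subgroup SL(2, K)) ↔ ∃ w : N, (w : G) ∈ (S : Subgroup G) ∧ φ w = x := by
    intro x
    simp [P, Sylow.coe_mapSurjective, Subgroup.mem_map, Sylow.coe_subtype, mem_subgroupOf]
  have hsup : R ⊔ A = (S : Subgroup G) := h.P_eq.trans hPS
  have hAN : A ≤ N := h.A_le.trans inf_le_right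
  have hPA : ∀ x ∈ (P : Subgroup SL(2, K)), ∃ (a : G) (ha : a ∈ A), φ ⟨a, hAN ha⟩ = x := by
    intro x hx
    obtain ⟨w, hw, rfl⟩ := hPmem.1 hx
    have hw' : (w : G) ∈ (R : Set G) * (A : Set G) := by
      rw [← coe_mul_of_right_le_normalizer_left R A hAN, hsup]; exact hw
    obtain ⟨r, hr, a, ha, hra⟩ := hw'
    refine ⟨a, ha, ?_⟩
    have : w = ⟨r, (le_normalizer : R ≤ N) hr⟩ * ⟨a, hAN ha⟩ := Subtype.ext hra.symm
    rw [this, map_mul, (hker ⟨r, _⟩).2 hr, one_mul]
  haveI : CharP K 2 := charP_two h.card_K (hq.trans (show 4 = 2 ^ 2 by norm_num))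
  have hperf : commutator SL(2, K) = ⊤ := by
    classical
    obtain ⟨a, -, ha⟩ := Finset.exists_mem_notMem_of_card_lt_card (s := ({0, 1} : Finset K))
      (t := Finset.univ) (by
        have := Finset.card_le_two (a := (0 : K)) (b := 1)
        rw [Finset.card_univ, h.card_K, hq]; omega)
    simp only [Finset.mem_insert, Finset.mem_singleton, not_or] at ha
    refine Matrix.SL2.commutator_eq_top ha.1 fun h => ?_
    rcases sq_eq_one_iff.1 h with h | h
    · exact ha.2 h
    · exact ha.2 (h.trans (CharTwo.neg_eq 1))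
  have h2 : 2 ∣ Nat.card SL(2, K) := by
    rw [CfsgLib.Classical.card_sl_two_eq, h.card_K, hq]; norm_num
  refine sylow_abelian_selfNorm_ne hperf h2 P ?_ (le_antisymm ?_ le_normalizer)
  · intro x hx y hy
    obtain ⟨a, ha, rfl⟩ := hPA x hx
    obtain ⟨b, hb, rfl⟩ := hPA y hy
    rw [← map_mul, ← map_mul]
    refine congrArg φ (Subtype.ext ?_)
    have := h.A_sq _ (A.mul_mem ha hb)
    have e1 := inv_eq_of_mul_eq_one_right this
    rw [mul_inv_rev, inv_eq_of_mul_eq_one_right (h.A_sq a ha), inv_eq_of_mul_eq_one_right (h.A_sq b hb)] at e1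
    exact e1.symm
  · intro x hx
    obtain ⟨w, rfl⟩ := hφs x
    refine hPmem.2 ⟨w, ?_, rfl⟩
    rw [← hself S]
    refine mem_normalizer_iff_of_finite fun s hs => ?_
    obtain ⟨w', hw', hww⟩ := hPmem.1 ((mem_normalizer_iff.1 hx (φ ⟨s, hSN hs⟩)).1 (hPmem.2 ⟨⟨s, hSN hs⟩, hs, rfl⟩))
    have hr : φ (w * ⟨s, hSN hs⟩ * w⁻¹ * w'⁻¹) = 1 := by
      rw [map_mul, map_mul, map_mul, map_inv, map_inv, hww, mul_inv_cancel]
    have := (S : Subgroup G).mul_mem (h.bad.le ((hker _).1 hr)) hw'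
    simpa using this

/-- The simple CIT groups with self-normalizing Sylow 2-subgroups. -/
theorem cit_psl (hna : ∃ a b : G, a * b ≠ b * a) (hc : IsCIT G)
    (hself : ∀ T : Sylow 2 G, normalizer ((T : Subgroup G) : Set G) = (T : Subgroup G)) :
    ∃ (F : Type) (_ : Field F) (_ : Fintype F), 4 ≤ Fintype.card F ∧
      Nonempty (G ≃* Matrix.ProjectiveSpecialLinearGroup (Fin 2) F) := by
  have h2 : 2 ∣ Nat.card G := by
    by_contra hodd
    obtain ⟨a, b, hab⟩ := hna
    exact hab ((IsSimpleGroup.comm_iff_isSolvable.2 (CfsgLib.FT.odd_order_solvable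
      (Nat.odd_iff.2 (Nat.two_dvd_ne_zero.1 hodd)))) a b)
  obtain ⟨S⟩ : Nonempty (Sylow 2 G) := inferInstance
  by_cases hall : ∀ Q : Subgroup G, Q ≤ (S : Subgroup G) → Q ≠ ⊥ → normalizer (Q : Set G) ≤ KJ S
  · exact (se_false hna hc hself (stronglyEmbedded_of_all hna S h2 hall)).elim
  obtain ⟨R, h⟩ := exists_bad S hall
  obtain ⟨A, hA, hAR, hquad⟩ := h.exists_offender hc
  obtain ⟨q, hAq, hZq, hZA, hfix, ⟨hq, hN6⟩ | ⟨hq4, K, _, _, hK, ⟨e⟩⟩⟩ :=
    h.structure_thm hc hA hAR hquad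
  · subst hq
    obtain ⟨F⟩ := h.frame_of_six hc hna hA hAR hAq hZq hZA hN6
    obtain ⟨K, _, _, ⟨e⟩⟩ := CfsgLib.StructC.SCNC.exists_psl_two (isMulCommutative_false hna) F
    refine ⟨K, inferInstance, inferInstance, ?_, ⟨e⟩⟩
    have h1 : 1 < Fintype.card K := Fintype.one_lt_card
    by_contra hlt
    have hns : ¬ Group.IsSolvable G := fun h => by
      obtain ⟨a, b, hab⟩ := hna
      exact hab ((IsSimpleGroup.comm_iff_isSolvable.2 h) a b)
    apply hns
    rcases (show Fintype.card K = 2 ∨ Fintype.card K = 3 by omega) with h | h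
    · exact CfsgLib.Char.burnside_pq 2 3 Nat.prime_two Nat.prime_three 1 1 G (by
        rw [Nat.card_congr e.toEquiv, CfsgLib.Classical.card_psl_two_eq h 6 (by norm_num)]; rfl)
    · exact CfsgLib.Char.burnside_pq 2 3 Nat.prime_two Nat.prime_three 2 1 G (by
        rw [Nat.card_congr e.toEquiv, CfsgLib.Classical.card_psl_two_eq h 12 (by norm_num)]; rfl)
  · exact (large_false hna hc hself (h.exists_large hc hA hAR hquad hAq hZq hZA hfix hq4 hK e) hA).elim

end CfsgLib.FGS.MaxNorm
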