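import Cfsg.Agent.Lib.FGS.MaxNormalizer.Fusion
import Cfsg.Agent.Lib.FGS.MaxNormalizer.Klein
import Cfsg.Agent.Lib.FGS.MaxNormalizer.SelfNorm
import Cfsg.Agent.Lib.Invol.CIT.SpreadBase
import Cfsg.Agent.Lib.Transfer.Thompson

/-!
S4233: the socle is a linear group of dimension two.
-/

set_option autoImplicit false
set_option linter.unusedSectionVars false

namespace CfsgLib.FGS.MaxNorm

open Subgroup
open scoped Pointwise

universe u

section General

variable {G : Type u} [Group G] [Finite G]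

/-- An element central in some Sylow 2-subgroup. -/
def Central2 (z : G) : Prop :=
  ∃ T : Sylow 2 G, z ∈ (T : Subgroup G) ∧ ∀ x ∈ (T : Subgroup G), x * z = z * x

theorem Central2.conj {z : G} (h : Central2 z) (g : G) : Central2 (g * z * g⁻¹) := by
  obtain ⟨T, hz, hc⟩ := h
  refine ⟨g • T, ?_, ?_⟩
  · rw [Sylow.coe_subgroup_smul]
    exact ⟨z, hz, rfl⟩
  · rw [Sylow.coe_subgroup_smul]
    rintro _ ⟨x, hx, rfl⟩
    show g * x * g⁻¹ * (g * z * g⁻¹) = g * z * g⁻¹ * (g * x * g⁻¹)
    rw [show g * x * g⁻¹ * (g * z * g⁻¹) = g * (x * z) * g⁻¹ by group, hc x hx]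
    group

theorem exists_invol_central (h2 : 2 ∣ Nat.card G) (T : Sylow 2 G) :
    ∃ z ∈ (T : Subgroup G), orderOf z = 2 ∧ ∀ x ∈ (T : Subgroup G), x * z = z * x := by
  haveI := Fact.mk Nat.prime_two
  haveI : Nontrivial (T : Subgroup G) := by
    rw [← Finite.one_lt_card_iff_nontrivial, Sylow.card_eq_multiplicity]
    exact Nat.one_lt_pow (Nat.Prime.factorization_pos_of_dvd Nat.prime_two Nat.card_pos.ne' h2).ne' one_lt_two
  obtain ⟨k, hk0, hk⟩ := (T.isPGroup'.to_subgroup (center (T : Subgroup G))).nontrivial_iff_card.1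
    (IsPGroup.center_nontrivial T.isPGroup')
  obtain ⟨z, hz⟩ := exists_prime_orderOf_dvd_card' (G := center (T : Subgroup G)) 2 (by
    rw [hk]; exact dvd_pow_self 2 hk0.ne')
  exact ⟨z.1, z.1.2, by rw [Subgroup.orderOf_coe, Subgroup.orderOf_coe, hz],
    fun x hx => congrArg Subtype.val (mem_center_iff.1 z.2 ⟨x, hx⟩)⟩

theorem relIndex_two {M T : Subgroup G} {a : G} (haT : a ∈ T) (haM : a ∉ M)
    (h : ∀ b ∈ T, b ∉ M → b * a ∈ M) : M.relIndex T = 2 := by
  refine index_eq_two_iff.2 ⟨⟨a, haT⟩, fun b => ?_⟩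
  simp only [mem_subgroupOf, Subgroup.coe_mul]
  by_cases hb : (b : G) ∈ M
  · exact Or.inr ⟨hb, fun h' => haM ((M.mul_mem_cancel_left hb).1 h')⟩
  · exact Or.inl ⟨h b b.2 hb, hb⟩

/-- No subgroup of index two of a Sylow 2-subgroup of a simple group avoids a class of involutions. -/
theorem transfer_false [IsSimpleGroup G] (hG : ¬ IsMulCommutative G) (T : Sylow 2 G) {M : Subgroup G}
    (hM : M ≤ (T : Subgroup G)) (hi : M.relIndex (T : Subgroup G) = 2) {u : G} (hu : orderOf u = 2)
    (huT : u ∈ (T : Subgroup G)) (hno : ∀ g : G, g * u * g⁻¹ ∉ M) : False := by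
  rcases CfsgLib.Transfer.thompson_transfer_involution T hM hi (hu ▸ pow_orderOf_eq_one u) huT with
    ⟨N, hN, hN2, huN⟩ | ⟨g, hg⟩
  · rcases hN.eq_bot_or_eq_top with h | h
    · rw [h, index_bot] at hN2
      haveI : Fact (Nat.Prime 2) := ⟨Nat.prime_two⟩
      haveI := isCyclic_of_prime_card hN2
      exact hG ⟨⟨fun a b => by
        letI : CommGroup G := IsCyclic.commGroup
        exact mul_comm a b⟩⟩
    · rw [h, index_top] at hN2
      omega
  · exact hno g hg

/-- The elements of an abelian group generated by an element of order dividing two and one of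
order dividing four. -/
theorem mem_pair {a b z : G} (hab : a * b = b * a) (ha : a * a = 1) (hb : b * b = z) (hz : z * z = 1)
    {q : G} (hq : q ∈ zpowers a ⊔ zpowers b) :
    (q * q = 1 ∧ (q = 1 ∨ q = z ∨ q = a ∨ q = a * z)) ∨
      (q * q = z ∧ (q = b ∨ q = b * z ∨ q = a * b ∨ q = a * b * z)) := by
  have hn : zpowers b ≤ normalizer (zpowers a : Set G) := zpowers_le.2
    (CfsgLib.Invol.mem_normalizer_iff_of_finite fun w hw => by
      obtain ⟨i, rfl⟩ := mem_zpowers_iff.1 hw
      rw [← conj_zpow, ← hab, mul_inv_cancel_right]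
      exact zpow_mem (mem_zpowers a) i)
  have hq' : q ∈ ((zpowers a : Subgroup G) : Set G) * (zpowers b : Set G) := by
    rw [← coe_mul_of_right_le_normalizer_left (zpowers a) (zpowers b) hn]; exact hq
  obtain ⟨a', ha', b', hb', rfl⟩ := hq'
  have hpow : ∀ {w : G}, w * w = 1 → ∀ k : ℤ, w ^ k = 1 ∨ w ^ k = w := fun {w} hw k => by
    rcases Int.even_or_odd' k with ⟨l, rfl | rfl⟩
    · left; rw [zpow_mul, zpow_two, hw, one_zpow]
    · right; rw [zpow_add, zpow_mul, zpow_two, hw, one_zpow, one_mul, zpow_one]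
  obtain ⟨i, rfl⟩ := mem_zpowers_iff.1 ha'
  obtain ⟨j, rfl⟩ := mem_zpowers_iff.1 hb'
  have hza : a * z = z * a := by rw [← hb, ← mul_assoc, hab, mul_assoc, hab, mul_assoc]
  have hzb : b * z = z * b := by rw [← hb, mul_assoc]
  simp only
  rcases Int.even_or_odd' j with ⟨k, rfl | rfl⟩
  · left
    rw [zpow_mul, zpow_two, hb]
    have e1 : a * z * (a * z) = 1 := by
      calc a * z * (a * z) = a * (z * a) * z := by group
        _ = a * a * (z * z) := by rw [← hza]; group
        _ = 1 := by rw [ha, hz, one_mul]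
    rcases hpow ha i with e | e <;> rcases hpow hz k with e' | e' <;> rw [e, e']
    · exact ⟨by simp, Or.inl (one_mul 1)⟩
    · exact ⟨by rw [one_mul, hz], Or.inr (Or.inl (one_mul z))⟩
    · exact ⟨by rw [mul_one, ha], Or.inr (Or.inr (Or.inl (mul_one a)))⟩
    · exact ⟨e1, Or.inr (Or.inr (Or.inr rfl))⟩
  · right
    rw [zpow_add, zpow_mul, zpow_two, hb, zpow_one]
    have e1 : b * z * (b * z) = z := by
      calc b * z * (b * z) = b * (z * b) * z := by group
        _ = b * b * (z * z) := by rw [← hzb]; group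
        _ = z := by rw [hb, hz, mul_one]
    have e2 : a * b * (a * b) = z := by
      calc a * b * (a * b) = a * (b * a) * b := by group
        _ = a * a * (b * b) := by rw [← hab]; group
        _ = z := by rw [ha, hb, one_mul]
    have e3 : a * b * z * (a * b * z) = z := by
      calc a * b * z * (a * b * z) = a * b * (z * a) * b * z := by group
        _ = a * b * a * (z * b) * z := by rw [← hza]; group
        _ = a * b * (a * b) * (z * z) := by rw [← hzb]; group
        _ = z := by rw [e2, hz, mul_one]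
    rcases hpow ha i with e | e <;> rcases hpow hz k with e' | e' <;> rw [e, e']
    · exact ⟨by rw [one_mul, one_mul, hb], Or.inl (by rw [one_mul, one_mul])⟩
    · rw [one_mul, ← hzb]; exact ⟨e1, Or.inr (Or.inl rfl)⟩
    · rw [one_mul]; exact ⟨e2, Or.inr (Or.inr (Or.inl rfl))⟩
    · rw [← hzb, show a * (b * z) = a * b * z from (mul_assoc a b z).symm]; exact ⟨e3, Or.inr (Or.inr (Or.inr rfl))⟩

end General

variable {A : Type u} [Group A] [Finite A] {S : Subgroup A}

variable (c : Core A S)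

include c

/-- A Sylow 2-subgroup normalises the group of type `(2,4)` or `(4)` through its central involution. -/
theorem Core.pair_normal {T : Sylow 2 S} {z : S} (hz : orderOf z = 2)
    (hCA : centralizer ({(z : A)} : Set A) = normalizer ((T : Subgroup S).map S.subtype : Set A))
    {a b : S} (haT : a ∈ (T : Subgroup S)) (hbT : b ∈ (T : Subgroup S)) (hab : a * b = b * a)
    (ha : a * a = 1) (hb : b * b = z) {t : S} (ht : t ∈ (T : Subgroup S)) :
    (t * a * t⁻¹ = 1 ∨ t * a * t⁻¹ = z ∨ t * a * t⁻¹ = a ∨ t * a * t⁻¹ = a * z) ∧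
      (t * b * t⁻¹ = b ∨ t * b * t⁻¹ = b * z ∨ t * b * t⁻¹ = a * b ∨ t * b * t⁻¹ = a * b * z) := by
  haveI := Fact.mk Nat.prime_two
  have hz2 := CfsgLib.Invol.invol_mul_self hz
  have hz1 := CfsgLib.Invol.invol_ne_one hz
  have hzA : orderOf (z : A) = 2 := by rw [Subgroup.orderOf_coe]; exact hz
  set Q0 : Subgroup S := zpowers a ⊔ zpowers b with hQ0
  set Q : Subgroup A := Q0.map S.subtype with hQ
  have hQT : Q0 ≤ (T : Subgroup S) := sup_le (zpowers_le.2 haT) (zpowers_le.2 hbT)
  have hbQ : (b : A) ∈ Q := mem_map_of_mem _ (mem_sup_right (mem_zpowers b))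
  have hne : Q ≠ ⊥ := fun e => hz1 (by
    rw [← hb, show b = 1 from Subtype.ext (mem_bot.1 (e ▸ hbQ)), mul_one])
  obtain ⟨k, hk⟩ := IsPGroup.iff_card.1 ((T.isPGroup'.to_le hQT).map S.subtype)
  have h2 : TwoPrimes Q := twoPrimes_of_dvd (i := k) (j := 0) Nat.prime_two Nat.prime_two
    (by rw [hk, pow_zero, mul_one])
  have hle : normalizer (Q : Set A) ≤ centralizer ({(z : A)} : Set A) := by
    intro n hn
    obtain ⟨q, hq, hqn⟩ := (mem_normalizer_iff.1 hn (b : A)).1 hbQ
    have e : ((q * q : S) : A) = n * z * n⁻¹ := by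
      rw [Subgroup.coe_mul, show (q : A) = n * b * n⁻¹ from hqn, ← hb, Subgroup.coe_mul]
      group
    rw [mem_centralizer_singleton_iff]
    rcases mem_pair hab ha hb hz2 hq with ⟨h, -⟩ | ⟨h, -⟩
    · rw [h, Subgroup.coe_one, eq_comm, conj_eq_one_iff] at e
      exact absurd (Subtype.ext e) hz1
    · rw [h] at e
      exact mul_inv_eq_iff_eq_mul.1 e.symm
  have heq := c.eq_of_le hne h2 hle (c.cI_ne_top (CfsgLib.Invol.invol_ne_one hzA))
  have htn : (t : A) ∈ normalizer (Q : Set A) := by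
    rw [heq, hCA]
    exact le_normalizer (mem_map_of_mem _ ht)
  have hconj : ∀ q ∈ Q0, t * q * t⁻¹ ∈ Q0 := fun q hq => by
    have h1 := (mem_normalizer_iff.1 htn (q : A)).1 (mem_map_of_mem _ hq)
    obtain ⟨q', hq', e⟩ := h1
    rwa [show t * q * t⁻¹ = q' from Subtype.ext e.symm]
  constructor
  · rcases mem_pair hab ha hb hz2 (hconj a (mem_sup_left (mem_zpowers a))) with ⟨-, h⟩ | ⟨h, -⟩
    · exact h
    · refine absurd ?_ hz1
      rw [← h, conj_mul, ha, mul_one, mul_inv_cancel]
  · rcases mem_pair hab ha hb hz2 (hconj b (mem_sup_right (mem_zpowers b))) with ⟨h, -⟩ | ⟨-, h⟩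
    · rw [conj_mul, hb, conj_eq_one_iff] at h
      exact absurd h hz1
    · exact h

/-- The centraliser of a central involution when no such involution commutes with an element of odd
prime order. -/
theorem Core.cI_eq_normalizer {T : Sylow 2 S} {z : S} (hz : orderOf z = 2)
    (hzc : ∀ x ∈ (T : Subgroup S), x * z = z * x)
    (hp : IsPGroup 2 (centralizer ({(z : A)} : Set A))) :
    (∀ x : S, x * z = z * x → x ∈ (T : Subgroup S)) ∧
      centralizer ({(z : A)} : Set A) = normalizer ((T : Subgroup S).map S.subtype : Set A) := by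
  haveI := Fact.mk Nat.prime_two
  have hzA : orderOf (z : A) = 2 := by rw [Subgroup.orderOf_coe]; exact hz
  have hP : IsPGroup 2 (centralizer ({z} : Set S)) := by
    intro x
    obtain ⟨k, hk⟩ := hp ⟨(x : S), mem_centralizer_singleton_iff.2
      (congrArg Subtype.val (mem_centralizer_singleton_iff.1 x.2))⟩
    refine ⟨k, Subtype.ext (Subtype.ext ?_)⟩
    simpa using congrArg Subtype.val hk
  have hTC : centralizer ({z} : Set S) = (T : Subgroup S) :=
    T.is_maximal' hP fun x hx => mem_centralizer_singleton_iff.2 (hzc x hx)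
  have h1 : ∀ x : S, x * z = z * x → x ∈ (T : Subgroup S) := fun x hx =>
    hTC ▸ mem_centralizer_singleton_iff.2 hx
  refine ⟨h1, ?_⟩
  have hne : (T : Subgroup S).map S.subtype ≠ ⊥ := fun e => CfsgLib.Invol.invol_ne_one hz
    (Subtype.ext (mem_bot.1 (e ▸ mem_map_of_mem _ (h1 z rfl) :)))
  obtain ⟨k, hk⟩ := IsPGroup.iff_card.1 (T.isPGroup'.map S.subtype)
  have h2 : TwoPrimes ((T : Subgroup S).map S.subtype) := twoPrimes_of_dvd (i := k) (j := 0)
    Nat.prime_two Nat.prime_two (by rw [hk, pow_zero, mul_one])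
  have hle : centralizer ({(z : A)} : Set A) ≤ normalizer ((T : Subgroup S).map S.subtype : Set A) := by
    intro a ha
    refine CfsgLib.Invol.mem_normalizer_iff_of_finite ?_
    rintro _ ⟨x, hx, rfl⟩
    refine ⟨⟨a * x * a⁻¹, c.normal.conj_mem _ x.2 a⟩, h1 _ (Subtype.ext ?_), rfl⟩
    show a * (x : A) * a⁻¹ * z = z * (a * x * a⁻¹)
    have e1 := mem_centralizer_singleton_iff.1 ha
    have e2 := congrArg Subtype.val (hzc x hx)
    simp only [Subgroup.coe_mul] at e2
    calc a * (x : A) * a⁻¹ * z = a * x * (a⁻¹ * z * a) * a⁻¹ := by group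
      _ = a * (x * z) * a⁻¹ := by rw [mul_assoc a⁻¹, ← e1, inv_mul_cancel_left]; group
      _ = a * z * x * a⁻¹ := by rw [e2]; group
      _ = z * (a * x * a⁻¹) := by rw [e1]; group
  exact (((c.isCoatom_cI hzA).le_iff.1 hle).resolve_left (c.normalizer_ne_top hne h2)).symm

/-- No involution outside the centres when the central ones have 2-group centralisers. -/
theorem Core.noncentral_false
    (hnone : ∀ z : S, orderOf z = 2 → Central2 z → IsPGroup 2 (centralizer ({(z : A)} : Set A)))
    {u : S} (hu : orderOf u = 2) (hnu : ¬ Central2 u) : False := by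
  haveI := Fact.mk Nat.prime_two
  haveI := c.simple
  haveI := c.normal
  have hu2 := CfsgLib.Invol.invol_mul_self hu
  have huA : orderOf (u : A) = 2 := by rw [Subgroup.orderOf_coe]; exact hu
  -- a Sylow 2-subgroup meeting the centraliser in a Sylow 2-subgroup
  obtain ⟨P⟩ : Nonempty (Sylow 2 (centralizer ({u} : Set S))) := inferInstance
  obtain ⟨T, hPT⟩ := (P.isPGroup'.map (centralizer ({u} : Set S)).subtype).exists_le_sylow
  set Tu : Subgroup S := (T : Subgroup S) ⊓ centralizer ({u} : Set S) with hTu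
  have hTu2 : IsPGroup 2 Tu := T.isPGroup'.to_le inf_le_left
  have hmax : ∀ X : Subgroup S, IsPGroup 2 X → X ≤ centralizer ({u} : Set S) → Nat.card X ≤ Nat.card Tu := by
    intro X hX hXC
    obtain ⟨P', hP'⟩ := ((hX.comap_subtype (K := centralizer ({u} : Set S)))).exists_le_sylow
    calc Nat.card X = Nat.card (X.subgroupOf (centralizer ({u} : Set S))) :=
          (Nat.card_congr (subgroupOfEquivOfLe hXC).toEquiv).symm
      _ ≤ Nat.card (P' : Subgroup (centralizer ({u} : Set S))) := Subgroup.card_le_of_le hP'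
      _ = Nat.card (P : Subgroup (centralizer ({u} : Set S))) := by
          rw [Sylow.card_eq_multiplicity, Sylow.card_eq_multiplicity]
      _ = Nat.card ((P : Subgroup (centralizer ({u} : Set S))).map (centralizer ({u} : Set S)).subtype) :=
          (Subgroup.card_map_of_injective (Subgroup.subtype_injective _)).symm
      _ ≤ Nat.card Tu := Subgroup.card_le_of_le (le_inf hPT (map_subtype_le _))
  have huTu : u ∈ Tu := by
    set X : Subgroup S := Tu ⊔ zpowers u with hX
    have hn : zpowers u ≤ normalizer (Tu : Set S) := zpowers_le.2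
      (CfsgLib.Invol.mem_normalizer_iff_of_finite fun x hx => by
        rw [← mem_centralizer_singleton_iff.1 hx.2, mul_inv_cancel_right]
        exact hx)
    have hXp : IsPGroup 2 X := hTu2.to_sup_of_normal_left'
      (CfsgLib.Invol.isPGroup_zpowers_of_invol hu) hn
    have hXC : X ≤ centralizer ({u} : Set S) :=
      sup_le inf_le_right (zpowers_le.2 (mem_centralizer_singleton_iff.2 rfl))
    rw [show Tu = X from eq_of_le_of_card_ge le_sup_left (hmax X hXp hXC)]
    exact mem_sup_right (mem_zpowers u)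
  have huT : u ∈ (T : Subgroup S) := huTu.1
  obtain ⟨n₀, hn₀T, hn₀u⟩ : ∃ x ∈ (T : Subgroup S), x ∉ Tu := SetLike.not_le_iff_exists.1 fun hle =>
    hnu ⟨T, huT, fun x hx => mem_centralizer_singleton_iff.1 (hle hx).2⟩
  obtain ⟨n, hnT, hnN, hnu'⟩ : ∃ n ∈ (T : Subgroup S), n ∈ normalizer (Tu : Set S) ∧ n ∉ Tu := by
    haveI := T.isPGroup'.isNilpotent
    have hlt : Tu.subgroupOf (T : Subgroup S) < ⊤ :=
      lt_top_iff_ne_top.2 fun e => hn₀u (subgroupOf_eq_top.1 e hn₀T)
    obtain ⟨x, hx, hxn⟩ := SetLike.exists_of_lt (Group.normalizerCondition_of_isNilpotent _ hlt)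
    refine ⟨x, x.2, CfsgLib.Invol.mem_normalizer_iff_of_finite fun y hy => ?_, hxn⟩
    exact (mem_normalizer_iff.1 hx ⟨y, hy.1⟩).1 hy
  have hnC : n * u ≠ u * n := fun h => hnu' ⟨hnT, mem_centralizer_singleton_iff.2 h⟩
  have hnA : (n : A) * u ≠ u * n := fun h => hnC (Subtype.ext h)
  -- the centraliser of `u` is no 2-group
  obtain ⟨y, hy, hyo, huy⟩ : ∃ y : A, (orderOf y).Prime ∧ Odd (orderOf y) ∧ Commute (u : A) y := by
    by_contra hno
    push Not at hno
    have hp : IsPGroup 2 (centralizer ({(u : A)} : Set A)) := by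
      refine CfsgLib.Invol.CIT.isPGroup_of_no_odd fun x hx hxo => ?_
      by_contra hx1
      have h1 : orderOf x ≠ 1 := fun e => hx1 (orderOf_eq_one_iff.1 e)
      obtain ⟨r, hr, hrd⟩ := Nat.exists_prime_and_dvd h1
      obtain ⟨e, he⟩ := hrd
      have hro : orderOf (x ^ e) = r := by
        rw [orderOf_pow_of_dvd (by rintro rfl; rw [mul_zero] at he; exact (orderOf_pos x).ne' he)
          (he ▸ dvd_mul_left e r), he]
        exact Nat.mul_div_cancel _ (Nat.pos_of_ne_zero (by rintro rfl; rw [mul_zero] at he; exact (orderOf_pos x).ne' he))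
      exact hno (x ^ e) (hro ▸ hr) (hro ▸ hxo.of_dvd_nat ⟨e, he⟩)
        ((show Commute x (u : A) from mem_centralizer_singleton_iff.1 hx).pow_left e).symm
    have hP : IsPGroup 2 (centralizer ({u} : Set S)) := by
      intro x
      obtain ⟨k, hk⟩ := hp ⟨(x : S), mem_centralizer_singleton_iff.2
        (congrArg Subtype.val (mem_centralizer_singleton_iff.1 x.2))⟩
      refine ⟨k, Subtype.ext (Subtype.ext ?_)⟩
      simpa using congrArg Subtype.val hk
    have heq : Tu = centralizer ({u} : Set S) :=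
      eq_of_le_of_card_ge inf_le_right (hmax _ hP le_rfl)
    set Q := Tu.map S.subtype with hQ
    have hne : Q ≠ ⊥ := fun e => CfsgLib.Invol.invol_ne_one huA (by
      have h0 := mem_map_of_mem S.subtype huTu
      rw [← hQ, e, mem_bot] at h0
      exact h0)
    obtain ⟨k, hk⟩ := IsPGroup.iff_card.1 (hTu2.map S.subtype)
    have h2 : TwoPrimes Q := twoPrimes_of_dvd (i := k) (j := 0)
      Nat.prime_two Nat.prime_two (by rw [hk, pow_zero, mul_one])
    have hle : centralizer ({(u : A)} : Set A) ≤ normalizer (Q : Set A) := by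
      intro a ha
      refine CfsgLib.Invol.mem_normalizer_iff_of_finite ?_
      rintro _ ⟨x, hx, rfl⟩
      refine ⟨⟨a * x * a⁻¹, c.normal.conj_mem _ x.2 a⟩, ?_, rfl⟩
      rw [heq]
      refine mem_centralizer_singleton_iff.2 (Subtype.ext ?_)
      show a * (x : A) * a⁻¹ * u = u * (a * x * a⁻¹)
      have e1 := mem_centralizer_singleton_iff.1 ha
      have e2 : (x : A) * u = u * x := congrArg Subtype.val (mem_centralizer_singleton_iff.1 hx.2)
      calc a * (x : A) * a⁻¹ * u = a * x * (a⁻¹ * u * a) * a⁻¹ := by group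
        _ = a * (x * u) * a⁻¹ := by rw [mul_assoc a⁻¹, ← e1, inv_mul_cancel_left]; group
        _ = a * u * x * a⁻¹ := by rw [e2]; group
        _ = u * (a * x * a⁻¹) := by rw [e1]; group
    have he := ((c.isCoatom_cI huA).le_iff.1 hle).resolve_left (c.normalizer_ne_top hne h2)
    refine hnA (mem_centralizer_singleton_iff.1 (he ▸ ?_))
    refine CfsgLib.Invol.mem_normalizer_iff_of_finite ?_
    rintro _ ⟨x, hx, rfl⟩
    exact ⟨n * x * n⁻¹, (mem_normalizer_iff.1 hnN x).1 hx, rfl⟩
  -- the structure of `Tu`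
  set v := n * u * n⁻¹ with hv_def
  have hvTu : v ∈ Tu := (mem_normalizer_iff.1 hnN u).1 huTu
  obtain ⟨habA, hthreeA⟩ := c.fused huA hy hyo huy (g := (n : A))
    (fun h => hnA (mul_inv_eq_iff_eq_mul.1 h)) (hTu2.map S.subtype)
    (by
      rintro _ ⟨x, hx, rfl⟩
      exact mem_centralizer_singleton_iff.2 (congrArg Subtype.val (mem_centralizer_singleton_iff.1 hx.2)))
    (mem_map_of_mem _ huTu) (mem_map_of_mem _ hvTu)
  have hab : ∀ a ∈ Tu, ∀ b ∈ Tu, a * b = b * a := fun a ha b hb =>
    Subtype.ext (habA a (mem_map_of_mem _ ha) b (mem_map_of_mem _ hb))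
  have hthree : ∀ x ∈ Tu, orderOf x = 2 → x = u ∨ x = v ∨ x = u * v := fun x hx hxo => by
    rcases hthreeA x (mem_map_of_mem _ hx) (by rw [Subgroup.orderOf_coe]; exact hxo) with e | e | e
    · exact Or.inl (Subtype.ext e)
    · exact Or.inr (Or.inl (Subtype.ext e))
    · exact Or.inr (Or.inr (Subtype.ext e))
  obtain ⟨z, hzT, hzo, hzc⟩ := exists_invol_central (hu ▸ orderOf_dvd_natCard u) T
  have hzC : Central2 z := ⟨T, hzT, hzc⟩
  have hzTu : z ∈ Tu := ⟨hzT, mem_centralizer_singleton_iff.2 (hzc u huT).symm⟩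
  have hz : z = u * v := by
    rcases hthree z hzTu hzo with e | e | e
    · exact absurd (e ▸ hzC) hnu
    · refine absurd ?_ hnu
      have := (e ▸ hzC : Central2 v).conj n⁻¹
      rwa [show n⁻¹ * v * n⁻¹⁻¹ = u by rw [hv_def]; group] at this
    · exact e
  have hzu : z * u = u * z := (hzc u huT).symm
  have hz2 := CfsgLib.Invol.invol_mul_self hzo
  have hvuz : v = u * z := by rw [hz, ← mul_assoc, hu2, one_mul]
  have hvz : v ≠ u := fun h => hnC (mul_inv_eq_iff_eq_mul.1 h)
  obtain ⟨-, hCA⟩ := c.cI_eq_normalizer hzo hzc (hnone z hzo hzC)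
  have hzne : ∀ g : S, g * u * g⁻¹ ≠ z := fun g e => hnu (by
    have := hzC.conj g⁻¹
    rwa [← e, show g⁻¹ * (g * u * g⁻¹) * g⁻¹⁻¹ = u by group] at this)
  by_cases hx : ∃ x ∈ Tu, x * x = z
  · obtain ⟨x, hxTu, hxz⟩ := hx
    have hux := hab u huTu x hxTu
    -- `Tu` has index two
    have hmove : ∀ t ∈ (T : Subgroup S), t ∉ Tu → t * u * t⁻¹ = v := by
      intro t ht htn
      rcases (c.pair_normal hzo hCA huT hxTu.1 hux hu2 hxz ht).1 with e | e | e | e
      · exact absurd (conj_eq_one_iff.1 e) (CfsgLib.Invol.invol_ne_one hu)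
      · exact absurd e (hzne t)
      · exact absurd ⟨ht, mem_centralizer_singleton_iff.2 (mul_inv_eq_iff_eq_mul.1 e)⟩ htn
      · rw [e, hvuz]
    obtain ⟨u₀, hcj, hu₀T, hu₀z⟩ := CfsgLib.InvChar.exists_other_conj_mem_sylow c.noncomm T hzo hzT
    obtain ⟨g₀, hg₀⟩ := isConj_iff.1 hcj
    have hu₀o : orderOf u₀ = 2 := by rw [← hg₀, CfsgLib.Invol.orderOf_conj_eq]; exact hzo
    have hu₀C : Central2 u₀ := hg₀ ▸ hzC.conj g₀
    have hu₀n : u₀ ∉ Tu := fun h => by
      rcases hthree u₀ h hu₀o with e | e | e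
      · exact hnu (e ▸ hu₀C)
      · refine hnu ?_
        have := (e ▸ hu₀C : Central2 v).conj n⁻¹
        rwa [show n⁻¹ * v * n⁻¹⁻¹ = u by rw [hv_def]; group] at this
      · exact hu₀z (e.trans hz.symm)
    have hu₀2 := CfsgLib.Invol.invol_mul_self hu₀o
    have hu₀u : u₀ * u * u₀⁻¹ = u * z := (hmove u₀ hu₀T hu₀n).trans hvuz
    have hzu₀ : u₀ * z * u₀⁻¹ = z := by rw [hzc u₀ hu₀T, mul_inv_cancel_right]
    have hzx : z * x = x * z := (hzc x hxTu.1).symm
    -- an element of order four fixed by `u₀`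
    obtain ⟨w, hwTu, hwz, hwf⟩ : ∃ w ∈ Tu, w * w = z ∧ u₀ * w * u₀⁻¹ = w := by
      have key : u₀ * (u₀ * x * u₀⁻¹) * u₀⁻¹ = x := by
        rw [show u₀ * (u₀ * x * u₀⁻¹) * u₀⁻¹ = u₀ * u₀ * x * (u₀ * u₀)⁻¹ by group, hu₀2, inv_one, one_mul,
          mul_one]
      have hbad : ∀ e : S, u₀ * e * u₀⁻¹ = e → e * z = z * e → u₀ * x * u₀⁻¹ = u * x * e → e * e = 1 → False := by
        intro e he hez h1 he2
        have h2 : u₀ * (u₀ * x * u₀⁻¹) * u₀⁻¹ = u * z * (u * x * e) * e := by
          rw [h1, show u₀ * (u * x * e) * u₀⁻¹ = (u₀ * u * u₀⁻¹) * (u₀ * x * u₀⁻¹) * (u₀ * e * u₀⁻¹) by group,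
            hu₀u, h1, he]
        rw [key, show u * z * (u * x * e) * e = u * (z * u) * x * (e * e) by group, hzu,
          show u * (u * z) * x * (e * e) = (u * u) * z * x * (e * e) by group, hu2, he2, one_mul, mul_one] at h2
        exact CfsgLib.Invol.invol_ne_one hzo (mul_eq_right.1 h2.symm)
      rcases (c.pair_normal hzo hCA huT hxTu.1 hux hu2 hxz hu₀T).2 with e | e | e | e
      · exact ⟨x, hxTu, hxz, e⟩
      · refine ⟨u * x, mul_mem huTu hxTu, ?_, ?_⟩
        · rw [show u * x * (u * x) = u * (x * u) * x by group, ← hux,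
            show u * (u * x) * x = (u * u) * (x * x) by group, hu2, hxz, one_mul]
        · rw [show u₀ * (u * x) * u₀⁻¹ = (u₀ * u * u₀⁻¹) * (u₀ * x * u₀⁻¹) by group, hu₀u, e, ← hzx,
            show u * z * (z * x) = u * (z * z) * x by group, hz2, mul_one]
      · exact (hbad 1 (by rw [mul_one, mul_inv_cancel]) (by rw [one_mul, mul_one]) (by rw [e, mul_one])
          (mul_one 1)).elim
      · exact (hbad z hzu₀ rfl (by rw [e]) hz2).elim
    have hwu₀ : u₀ * w = w * u₀ := mul_inv_eq_iff_eq_mul.1 hwf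
    -- transfer
    set M : Subgroup S := (T : Subgroup S) ⊓ centralizer ({u₀} : Set S) with hM
    have huM : u ∉ M := fun h => hvz (by
      have h1 : u * u₀ = u₀ * u := mem_centralizer_singleton_iff.1 h.2
      rw [← h1, mul_inv_cancel_right] at hu₀u
      rw [hvuz, ← hu₀u])
    have hneg : u * u₀ * u⁻¹ = u₀ * z := by
      rw [CfsgLib.Invol.invol_inv hu]
      calc u * u₀ * u = u * (u₀ * u * u₀⁻¹) * u₀ := by group
        _ = (u * u) * z * u₀ := by rw [hu₀u]; group
        _ = u₀ * z := by rw [hu2, one_mul, ← hzc u₀ hu₀T]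
    have hi : M.relIndex (T : Subgroup S) = 2 := relIndex_two huT huM fun b hb hbM => by
      refine ⟨mul_mem hb huT, mem_centralizer_singleton_iff.2 (mul_inv_eq_iff_eq_mul.1 ?_)⟩
      have hbz : b * z * b⁻¹ = z := by rw [hzc b hb, mul_inv_cancel_right]
      rcases (c.pair_normal hzo hCA hu₀T hwTu.1 hwu₀ hu₀2 hwz hb).1 with e | e | e | e
      · exact absurd (conj_eq_one_iff.1 e) (CfsgLib.Invol.invol_ne_one hu₀o)
      · exfalso
        refine hu₀z ?_
        calc u₀ = b⁻¹ * (b * u₀ * b⁻¹) * b := by group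
          _ = b⁻¹ * (b * z * b⁻¹) * b := by rw [e, hbz]
          _ = z := by group
      · exact absurd ⟨hb, mem_centralizer_singleton_iff.2 (mul_inv_eq_iff_eq_mul.1 e)⟩ hbM
      · calc b * u * u₀ * (b * u)⁻¹ = b * (u * u₀ * u⁻¹) * b⁻¹ := by group
          _ = (b * u₀ * b⁻¹) * (b * z * b⁻¹) := by rw [hneg]; group
          _ = u₀ := by rw [e, hbz, mul_assoc, hz2, mul_one]
    refine transfer_false c.noncomm T inf_le_left hi hu huT fun g hg => ?_
    set w' := g * u * g⁻¹ with hw'
    have hw'o : orderOf w' = 2 := by rw [hw', CfsgLib.Invol.orderOf_conj_eq]; exact hu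
    have hcom : w' * u₀ = u₀ * w' := mem_centralizer_singleton_iff.1 hg.2
    have hu₀ne : ∀ h : S, h * u * h⁻¹ ≠ u₀ := fun h e => hnu (by
      have := hu₀C.conj h⁻¹
      rwa [← e, show h⁻¹ * (h * u * h⁻¹) * h⁻¹⁻¹ = u by group] at this)
    by_cases hw'T : w' ∈ Tu
    · rcases hthree w' hw'T hw'o with e | e | e
      · exact huM (e ▸ hg)
      · have h1 : v * u₀ = u₀ * v := e ▸ hcom
        rw [hvuz] at h1
        refine huM ⟨huT, mem_centralizer_singleton_iff.2 (mul_right_cancel (b := z) ?_)⟩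
        rw [show u * u₀ * z = u * (u₀ * z) by group, hzc u₀ hu₀T, ← mul_assoc, h1, mul_assoc]
      · exact hzne g (e.trans hz.symm)
    · have ha : w' * u₀ ∈ Tu := by
        refine ⟨mul_mem hg.1 hu₀T, mem_centralizer_singleton_iff.2 (mul_inv_eq_iff_eq_mul.1 ?_)⟩
        have h1 := (hmove w' hg.1 hw'T).trans hvuz
        have hw'z : w' * z * w'⁻¹ = z := by rw [hzc w' hg.1, mul_inv_cancel_right]
        calc w' * u₀ * u * (w' * u₀)⁻¹ = w' * (u₀ * u * u₀⁻¹) * w'⁻¹ := by group
          _ = (w' * u * w'⁻¹) * (w' * z * w'⁻¹) := by rw [hu₀u]; group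
          _ = u := by rw [h1, hw'z, mul_assoc, hz2, mul_one]
      have ha2 : w' * u₀ * (w' * u₀) = 1 := by
        rw [show w' * u₀ * (w' * u₀) = w' * (u₀ * w') * u₀ by group, ← hcom,
          show w' * (w' * u₀) * u₀ = (w' * w') * (u₀ * u₀) by group, CfsgLib.Invol.invol_mul_self hw'o,
          hu₀2, one_mul]
      have hca : u₀ * (w' * u₀) = (w' * u₀) * u₀ := by rw [← mul_assoc, ← hcom]
      rcases eq_or_ne (w' * u₀) 1 with e | e
      · rw [mul_eq_one_iff_eq_inv, CfsgLib.Invol.invol_inv hu₀o] at e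
        exact hu₀ne g e
      · rcases hthree _ ha (CfsgLib.Invol.invol_of_mul_self ha2 e) with e' | e' | e'
        · exact huM ⟨huT, mem_centralizer_singleton_iff.2 (by rw [← e']; exact hca.symm)⟩
        · rw [e', hvuz] at hca
          refine huM ⟨huT, mem_centralizer_singleton_iff.2 (mul_right_cancel (b := z) ?_)⟩
          rw [show u * u₀ * z = u * (u₀ * z) by group, hzc u₀ hu₀T, ← mul_assoc, ← hca, mul_assoc]
        · rw [← hz] at e'
          refine hu₀ne (u * g) ?_
          calc u * g * u * (u * g)⁻¹ = u * w' * u⁻¹ := by rw [hw']; group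
            _ = u * (w' * u₀ * u₀) * u⁻¹ := by rw [mul_assoc w', hu₀2, mul_one]
            _ = (u * z * u⁻¹) * (u * u₀ * u⁻¹) := by rw [e']; group
            _ = z * (u₀ * z) := by rw [hneg, ← hzu, mul_inv_cancel_right]
            _ = u₀ := by rw [← mul_assoc, ← hzc u₀ hu₀T, mul_assoc, hz2, mul_one]
  · -- `Tu` is a four group
    push Not at hx
    have hsq : ∀ a ∈ Tu, a * a * (a * a) = 1 → a * a = 1 := by
      intro a ha h4
      by_contra hne
      rcases hthree _ (mul_mem ha ha) (CfsgLib.Invol.invol_of_mul_self h4 hne) with e | e | e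
      · have hb := (mem_normalizer_iff.1 hnN a).1 ha
        refine hx (a * (n * a * n⁻¹)) (mul_mem ha hb) ?_
        calc a * (n * a * n⁻¹) * (a * (n * a * n⁻¹)) = a * ((n * a * n⁻¹) * a) * (n * a * n⁻¹) := by group
          _ = a * (a * (n * a * n⁻¹)) * (n * a * n⁻¹) := by rw [hab _ hb a ha]
          _ = (a * a) * (n * (a * a) * n⁻¹) := by group
          _ = z := by rw [e, ← hv_def, ← hz]
      · have hb := (mem_normalizer_iff.1 (inv_mem hnN) a).1 ha
        refine hx (a * (n⁻¹ * a * n⁻¹⁻¹)) (mul_mem ha hb) ?_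
        calc a * (n⁻¹ * a * n⁻¹⁻¹) * (a * (n⁻¹ * a * n⁻¹⁻¹))
              = a * ((n⁻¹ * a * n⁻¹⁻¹) * a) * (n⁻¹ * a * n⁻¹⁻¹) := by group
          _ = a * (a * (n⁻¹ * a * n⁻¹⁻¹)) * (n⁻¹ * a * n⁻¹⁻¹) := by rw [hab _ hb a ha]
          _ = (a * a) * (n⁻¹ * (a * a) * n⁻¹⁻¹) := by group
          _ = v * u := by rw [e, hv_def]; group
          _ = z := by rw [hab v hvTu u huTu, ← hz]
      · exact hx a ha (e.trans hz.symm)
    have hexp : ∀ a ∈ Tu, a * a = 1 := by
      have key : ∀ (k : ℕ) (a : S), a ∈ Tu → a ^ 2 ^ k = 1 → a * a = 1 := by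
        intro k
        induction k with
        | zero => intro a _ h; simp at h; simp [h]
        | succ k ih =>
          intro a ha h
          refine hsq a ha (ih (a * a) (mul_mem ha ha) ?_)
          rw [← pow_two, ← pow_mul, ← pow_succ']
          exact h
      intro a ha
      obtain ⟨k, hk⟩ := hTu2 ⟨a, ha⟩
      exact key k a ha (by simpa using congrArg Subtype.val hk)
    have hcard : Nat.card Tu ≤ 4 := by
      classical
      have hsub : (Tu : Set S) ⊆ {1, u, v, z} := by
        intro a ha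
        rcases eq_or_ne a 1 with rfl | h1
        · simp
        · rcases hthree a ha (CfsgLib.Invol.invol_of_mul_self (hexp a ha) h1) with e | e | e
          · simp [e]
          · simp [e]
          · simp [e, ← hz]
      calc Nat.card Tu = (Tu : Set S).ncard := Nat.card_coe_set_eq _
        _ ≤ ({1, u, v, z} : Set S).ncard := Set.ncard_le_ncard hsub
        _ ≤ 4 := by
          refine (Set.ncard_insert_le _ _).trans (Nat.succ_le_succ ?_)
          refine (Set.ncard_insert_le _ _).trans (Nat.succ_le_succ ?_)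
          exact (Set.ncard_insert_le _ _).trans (by rw [Set.ncard_singleton])
    have hnv : n * v * n⁻¹ = u := by
      have h1 := (mem_normalizer_iff.1 hnN v).1 hvTu
      rw [hvuz, show n * (u * z) * n⁻¹ = (n * u * n⁻¹) * (n * z * n⁻¹) by group, ← hv_def, hvuz,
        hzc n hnT, mul_inv_cancel_right, mul_assoc, hz2, mul_one]
    -- an element of order four
    obtain ⟨x, hxT, hxz, hxu⟩ : ∃ x ∈ (T : Subgroup S), x * x = z ∧ x * u * x⁻¹ = v := by
      have hnn : n * n ∈ Tu := ⟨mul_mem hnT hnT, mem_centralizer_singleton_iff.2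
        (mul_inv_eq_iff_eq_mul.1 (by
          rw [show n * n * u * (n * n)⁻¹ = n * (n * u * n⁻¹) * n⁻¹ by group, ← hv_def, hnv]))⟩
      rcases eq_or_ne (n * n) 1 with e | e
      · refine ⟨u * n, mul_mem huT hnT, ?_, ?_⟩
        · calc u * n * (u * n) = u * (n * u * n⁻¹) * (n * n) := by group
            _ = z := by rw [← hv_def, e, mul_one, ← hz]
        · rw [show u * n * u * (u * n)⁻¹ = u * (n * u * n⁻¹) * u⁻¹ by group, ← hv_def, hab u huTu v hvTu,
            mul_inv_cancel_right]
      · have ho := CfsgLib.Invol.invol_of_mul_self (hexp _ hnn) e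
        rcases hthree _ hnn ho with e' | e' | e'
        · exfalso
          apply hvz
          rw [hv_def, ← e']
          group
        · exfalso
          apply hvz
          rw [← hnv, ← e']
          group
        · exact ⟨n, hnT, e'.trans hz.symm, rfl⟩
    have hxn : x * u ≠ u * x := fun h => hvz (by rw [← hxu, h, mul_inv_cancel_right])
    have hzx : z * x = x * z := by rw [← hxz, mul_assoc]
    have hconj : ∀ t ∈ (T : Subgroup S), t * x * t⁻¹ = x ∨ t * x * t⁻¹ = x * z := fun t ht => by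
      rcases (c.pair_normal hzo hCA (one_mem _) hxT (by rw [one_mul, mul_one]) (one_mul 1) hxz ht).2 with
        e | e | e | e
      · exact Or.inl e
      · exact Or.inr e
      · exact Or.inl (by rw [e, one_mul])
      · exact Or.inr (by rw [e, one_mul])
    set M : Subgroup S := (T : Subgroup S) ⊓ centralizer ({x} : Set S) with hM
    have huM : u ∉ M := fun h => hxn (mem_centralizer_singleton_iff.1 h.2).symm
    have hux : u * x * u⁻¹ = x * z := (hconj u huT).resolve_left fun h =>
      hxn (mul_inv_eq_iff_eq_mul.1 h).symm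
    have hi : M.relIndex (T : Subgroup S) = 2 := relIndex_two huT huM fun b hb hbM => by
      refine ⟨mul_mem hb huT, mem_centralizer_singleton_iff.2 (mul_inv_eq_iff_eq_mul.1 ?_)⟩
      have hbx := (hconj b hb).resolve_left fun h =>
        hbM ⟨hb, mem_centralizer_singleton_iff.2 (mul_inv_eq_iff_eq_mul.1 h)⟩
      calc b * u * x * (b * u)⁻¹ = b * (u * x * u⁻¹) * b⁻¹ := by group
        _ = (b * x * b⁻¹) * (b * z * b⁻¹) := by rw [hux]; group
        _ = x := by rw [hbx, hzc b hb, mul_inv_cancel_right, mul_assoc, hz2, mul_one]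
    refine transfer_false c.noncomm T inf_le_left hi hu huT fun g hg => ?_
    set w := g * u * g⁻¹ with hw
    have hwx : w * x = x * w := mem_centralizer_singleton_iff.1 hg.2
    set X : Subgroup S := zpowers x ⊔ zpowers w with hX
    have hXT : X ≤ (T : Subgroup S) := sup_le (zpowers_le.2 hxT) (zpowers_le.2 hg.1)
    have hXw : X ≤ centralizer ({w} : Set S) := sup_le
      (zpowers_le.2 (mem_centralizer_singleton_iff.2 hwx.symm))
      (zpowers_le.2 (mem_centralizer_singleton_iff.2 rfl))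
    have hXu : X.map (MulAut.conj g⁻¹).toMonoidHom ≤ centralizer ({u} : Set S) := by
      rintro _ ⟨q, hq, rfl⟩
      rw [mem_centralizer_singleton_iff]
      have e := mem_centralizer_singleton_iff.1 (hXw hq)
      simp only [MulEquiv.coe_toMonoidHom, MulAut.conj_apply, inv_inv]
      calc g⁻¹ * q * g * u = g⁻¹ * (q * w) * g := by rw [hw]; group
        _ = g⁻¹ * (w * q) * g := by rw [e]
        _ = u * (g⁻¹ * q * g) := by rw [hw]; group
    have h4 := hmax _ ((T.isPGroup'.to_le hXT).map _) hXu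
    rw [Subgroup.card_map_of_injective (MulAut.conj g⁻¹).injective] at h4
    have hxo : orderOf x = 4 := orderOf_eq_prime_pow (p := 2) (n := 1)
      (by rw [pow_one, pow_two, hxz]; exact CfsgLib.Invol.invol_ne_one hzo)
      (by rw [show (2 : ℕ) ^ (1 + 1) = 2 * 2 by norm_num, pow_mul, pow_two x, hxz, pow_two, hz2])
    have hXx : zpowers x = X := eq_of_le_of_card_ge le_sup_left (by
      rw [Nat.card_zpowers, hxo]; exact h4.trans hcard)
    have hwx' : w ∈ zpowers (1 : S) ⊔ zpowers x :=
      mem_sup_right (hXx ▸ mem_sup_right (mem_zpowers w))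
    have hwo : w * w = 1 := by rw [hw, conj_mul, hu2, mul_one, mul_inv_cancel]
    rcases mem_pair (by rw [one_mul, mul_one]) (one_mul 1) hxz hz2 hwx' with ⟨-, e⟩ | ⟨e, -⟩
    · have hw1 : w ≠ 1 := fun h => CfsgLib.Invol.invol_ne_one hu (conj_eq_one_iff.1 h)
      rcases e with e | e | e | e
      · exact hw1 e
      · exact hzne g e
      · exact hw1 e
      · exact hzne g (e.trans (one_mul z))
    · exact CfsgLib.Invol.invol_ne_one hzo (by rw [← e, hwo])

end CfsgLib.FGS.MaxNorm

namespace CfsgLib.FGS.MaxNorm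

open Subgroup

universe u

/-- The socle is a linear group of dimension two. -/
theorem psl : PslStmt.{u} := by
  intro A _ _ S c
  haveI := c.simple
  haveI := c.normal
  haveI := Fact.mk Nat.prime_two
  have hna : ∃ a b : S, a * b ≠ b * a := by
    by_contra! h
    exact c.noncomm ⟨⟨h⟩⟩
  by_cases h : ∃ z : S, orderOf z = 2 ∧ Central2 z ∧
      ∃ y : A, (orderOf y).Prime ∧ Odd (orderOf y) ∧ Commute (z : A) y
  · obtain ⟨z, hz, ⟨T, hzT, hzc⟩, y, hy, hyo, hzy⟩ := h
    obtain ⟨v, hcj, hvT, hvz⟩ := CfsgLib.InvChar.exists_other_conj_mem_sylow c.noncomm T hz hzT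
    obtain ⟨g, hg⟩ := isConj_iff.1 hcj
    have hgA : ((v : S) : A) = (g : A) * z * (g : A)⁻¹ := (congrArg Subtype.val hg).symm
    obtain ⟨hab, hthree⟩ := c.fused (g := (g : A)) (by rw [Subgroup.orderOf_coe]; exact hz) hy hyo hzy
      (fun e => hvz (Subtype.ext (hgA.trans e))) (T.isPGroup'.map S.subtype)
      (by
        rintro _ ⟨x, hx, rfl⟩
        exact mem_centralizer_singleton_iff.2 (congrArg Subtype.val (hzc x hx)))
      (mem_map_of_mem _ hzT) (hgA ▸ mem_map_of_mem S.subtype hvT)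
    refine psl_of_abelian_three c.noncomm T
      (fun a ha b hb => Subtype.ext (hab a (mem_map_of_mem _ ha) b (mem_map_of_mem _ hb))) hz hzT
      (v := v) (by rw [← hg, CfsgLib.Invol.orderOf_conj_eq]; exact hz) hvT (Ne.symm hvz) fun x hx hxo => ?_
    rcases hthree x (mem_map_of_mem _ hx) (by rw [Subgroup.orderOf_coe]; exact hxo) with e | e | e
    · exact Or.inl (Subtype.ext e)
    · exact Or.inr (Or.inl (Subtype.ext (e.trans hgA.symm)))
    · exact Or.inr (Or.inr (Subtype.ext (by rw [e, Subgroup.coe_mul, hgA])))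
  · push Not at h
    have hnone : ∀ z : S, orderOf z = 2 → Central2 z → IsPGroup 2 (centralizer ({(z : A)} : Set A)) := by
      intro z hz hzc
      refine CfsgLib.Invol.CIT.isPGroup_of_no_odd fun x hx hxo => ?_
      by_contra hx1
      obtain ⟨r, hr, hrd⟩ := Nat.exists_prime_and_dvd (fun e => hx1 (orderOf_eq_one_iff.1 e))
      obtain ⟨e, he⟩ := hrd
      have he0 : e ≠ 0 := by rintro rfl; rw [mul_zero] at he; exact (orderOf_pos x).ne' he
      have hro : orderOf (x ^ e) = r := by
        rw [orderOf_pow_of_dvd he0 (he ▸ dvd_mul_left e r), he]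
        exact Nat.mul_div_cancel _ (Nat.pos_of_ne_zero he0)
      exact h z hz hzc (x ^ e) (hro ▸ hr) (hro ▸ hxo.of_dvd_nat ⟨e, he⟩)
        ((show Commute x (z : A) from mem_centralizer_singleton_iff.1 hx).pow_left e).symm
    by_cases hall : ∀ u : S, orderOf u = 2 → Central2 u
    · refine cit_psl hna (fun t ht => ?_) fun T => ?_
      · intro x
        obtain ⟨k, hk⟩ := hnone t ht (hall t ht) ⟨(x : S), mem_centralizer_singleton_iff.2
          (congrArg Subtype.val (mem_centralizer_singleton_iff.1 x.2))⟩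
        refine ⟨k, Subtype.ext (Subtype.ext ?_)⟩
        simpa using congrArg Subtype.val hk
      · have h2 : 2 ∣ Nat.card S := by
          by_contra hodd
          obtain ⟨a, b, hab⟩ := hna
          exact hab ((IsSimpleGroup.comm_iff_isSolvable.2 (CfsgLib.FT.odd_order_solvable
            (Nat.odd_iff.2 (Nat.two_dvd_ne_zero.1 hodd)))) a b)
        obtain ⟨z, hzT, hz, hzc⟩ := exists_invol_central h2 T
        obtain ⟨h1, hCA⟩ := c.cI_eq_normalizer hz hzc (hnone z hz ⟨T, hzT, hzc⟩)
        refine le_antisymm (fun s hs => h1 s (Subtype.ext ?_)) le_normalizer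
        refine mem_centralizer_singleton_iff.1 (hCA.symm ▸ ?_ : (s : A) ∈ centralizer ({(z : A)} : Set A))
        refine CfsgLib.Invol.mem_normalizer_iff_of_finite ?_
        rintro _ ⟨x, hx, rfl⟩
        exact ⟨s * x * s⁻¹, (mem_normalizer_iff.1 hs x).1 hx, rfl⟩
    · push Not at hall
      obtain ⟨u, hu, hnu⟩ := hall
      exact (c.noncentral_false hnone hu hnu).elim

end CfsgLib.FGS.MaxNorm
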