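import Cfsg.Agent.Lib.FGS.MaxNormalizer.Basic
import Cfsg.Agent.Lib.InvChar.ConjRank.CentreFreeBasic
import Cfsg.Agent.Lib.Comp.Subnormal
import Cfsg.Agent.Lib.Char.Burnside
import Mathlib.GroupTheory.SchurZassenhaus

/-!
S4233, reduction: modulo the solvable radical the group is almost simple and inherits the
hypothesis.
-/

set_option autoImplicit false
set_option linter.unusedSectionVars false
set_option linter.style.haveILetI false

namespace CfsgLib.FGS.MaxNorm

open Subgroup

universe u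

variable {G : Type u} [Group G] [Finite G]

theorem isSolvable_of_twoPrimes {H : Subgroup G} (h : TwoPrimes H) : Group.IsSolvable H := by
  obtain ⟨p, q, hp, hq, hr⟩ := h
  set n := Nat.card H with hn
  obtain ⟨a, m, hm, hnm⟩ := Nat.exists_eq_pow_mul_and_not_dvd (n := n) Nat.card_pos.ne' p hp.ne_one
  have hm0 : m ≠ 0 := fun e => hm (e ▸ dvd_zero p)
  obtain ⟨b, hb⟩ : ∃ b, m = q ^ b := ⟨_, Nat.eq_prime_pow_of_unique_prime_dvd hm0 fun {r} hr' hd => by
    rcases hr r hr' (hnm ▸ hd.mul_left _) with rfl | rfl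
    · exact absurd hd hm
    · rfl⟩
  exact CfsgLib.Char.burnside_pq p q hp hq a b H (by rw [← hn, hnm, hb])

theorem le_radical_of_isSubnormal {H : Subgroup G} (hH : H.IsSubnormal) (hs : Group.IsSolvable H) :
    H ≤ Cfsg.solvableRadical G := by
  obtain ⟨N, hN, hle, hNs⟩ := CfsgLib.Comp.exists_normal_solvable_of_isSubnormal hH hs
  exact hle.trans (CfsgLib.InvChar.ConjRank.le_solvableRadical hN hNs)

/-- A preimage that is minimal has no further prime divisors. -/
theorem exists_lift {Q : Type u} [Group Q] [Finite Q] (π : G →* Q) (hπ : Function.Surjective π)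
    (Hb : Subgroup Q) :
    ∃ H : Subgroup G, H.map π = Hb ∧ ∀ r : ℕ, r.Prime → r ∣ Nat.card H → r ∣ Nat.card Hb := by
  obtain ⟨H, hH, hmin⟩ := Set.Finite.exists_minimalFor (fun H : Subgroup G => Nat.card H)
    {H : Subgroup G | H.map π = Hb} (Set.toFinite _)
    ⟨Hb.comap π, map_comap_eq_self_of_surjective hπ Hb⟩
  refine ⟨H, hH, fun r hr hd => by_contra fun hnd => ?_⟩
  have hH' : H.map π = Hb := hH
  set ψ : ↥H →* Q := π.comp H.subtype with hψ
  have hrange : ψ.range = Hb := by rw [← hH', hψ, MonoidHom.range_comp, range_subtype]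
  have htop : ∀ C : Subgroup H, C.map ψ = ψ.range → C = ⊤ := fun C hC => by
    have h1 : (C.map H.subtype).map π = Hb := by rw [Subgroup.map_map, ← hψ, hC, hrange]
    have h2 : Nat.card H ≤ Nat.card (C.map H.subtype) :=
      hmin h1 (card_le_of_le (map_subtype_le C))
    rw [card_map_of_injective H.subtype_injective] at h2
    exact eq_top_of_le_card C h2
  haveI := Fact.mk hr
  obtain ⟨P⟩ : Nonempty (Sylow r ψ.ker) := inferInstance
  set P' := (P : Subgroup ψ.ker).map ψ.ker.subtype with hP'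
  have hN : normalizer (P' : Set H) = ⊤ := by
    refine htop _ (le_antisymm (map_le_range _ _) ?_)
    have h3 := congrArg (Subgroup.map ψ) (Sylow.normalizer_sup_eq_top P)
    rw [Subgroup.map_sup, ← MonoidHom.range_eq_map,
      (Subgroup.map_eq_bot_iff _).2 le_rfl, sup_bot_eq] at h3
    exact h3.ge
  haveI : P'.Normal := normalizer_eq_top_iff.1 hN
  have hrange' : ψ.ker.index = Nat.card Hb := by rw [index_ker, hrange]
  have hcop : (Nat.card P').Coprime P'.index := by
    obtain ⟨i, hi⟩ := P.2.exists_card_eq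
    rw [hP', card_map_of_injective ψ.ker.subtype_injective, hi]
    refine Nat.Coprime.pow_left i ((Nat.Prime.coprime_iff_not_dvd hr).2 ?_)
    rw [index_map_subtype]
    intro hdd
    rcases (Nat.Prime.dvd_mul hr).1 hdd with h4 | h4
    · exact P.not_dvd_index h4
    · exact hnd (hrange' ▸ h4)
  obtain ⟨C, hC⟩ := exists_right_complement'_of_coprime hcop
  have hPk : P' ≤ ψ.ker := map_subtype_le _
  have hCt : C = ⊤ := htop C (le_antisymm (map_le_range _ _) (by
    rintro q ⟨x, rfl⟩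
    obtain ⟨⟨u, v⟩, huv⟩ := (isComplement'_def.1 hC).surjective x
    exact ⟨v, v.2, by rw [← huv, map_mul, show ψ u = 1 from hPk u.2, one_mul]⟩))
  have hP1 : Nat.card P' = 1 := by
    have h5 := hC.card_mul
    rw [hCt, card_top] at h5
    exact (Nat.mul_eq_right Nat.card_pos.ne').1 h5
  have hker : r ∣ Nat.card ψ.ker := by
    have h6 := ψ.ker.index_mul_card
    rw [hrange'] at h6
    exact ((Nat.Prime.dvd_mul hr).1 (h6 ▸ hd)).resolve_left hnd
  rw [hP', card_map_of_injective ψ.ker.subtype_injective] at hP1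
  have := P.dvd_card_of_dvd_card hker
  rw [hP1] at this
  exact hr.ne_one (Nat.dvd_one.1 this)

/-- Two commuting subnormal subgroups with trivial intersection do not occur. -/
theorem no_two (hrad : ∀ M : Subgroup G, M.IsSubnormal → Group.IsSolvable M → M = ⊥)
    (hmax : ∀ H : Subgroup G, H ≠ ⊥ → TwoPrimes H → IsCoatom (normalizer (H : Set G)))
    {M₁ M₂ : Subgroup G} (h₁ : M₁.IsSubnormal) (h₂ : M₂.IsSubnormal) (hne₁ : M₁ ≠ ⊥) (hne₂ : M₂ ≠ ⊥)
    (hc : ∀ x ∈ M₁, ∀ y ∈ M₂, Commute x y) : False := by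
  obtain ⟨q, hq, hqd⟩ := Nat.exists_prime_and_dvd (show Nat.card M₂ ≠ 1 from fun e =>
    hne₂ (card_eq_one.1 e))
  obtain ⟨p, hp, hpq, hpd⟩ : ∃ p, p.Prime ∧ p ≠ q ∧ p ∣ Nat.card M₁ := by
    by_contra hno
    push Not at hno
    refine hne₁ (hrad M₁ h₁ (isSolvable_of_twoPrimes ⟨q, q, hq, hq, fun r hr hd => ?_⟩))
    by_contra h'
    exact hno r hr (by tauto) hd
  haveI := Fact.mk hp
  haveI := Fact.mk hq
  obtain ⟨⟨x₁, hx₁⟩, ho₁⟩ := exists_prime_orderOf_dvd_card' (G := M₁) p hpd
  obtain ⟨⟨x₂, hx₂⟩, ho₂⟩ := exists_prime_orderOf_dvd_card' (G := M₂) q hqd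
  rw [Subgroup.orderOf_mk] at ho₁ ho₂
  have hxx := hc x₁ hx₁ x₂ hx₂
  have hcop : (orderOf x₁).Coprime (orderOf x₂) := by
    rw [ho₁, ho₂]; exact (Nat.coprime_primes hp hq).2 hpq
  have hy := hxx.orderOf_mul_eq_mul_orderOf_of_coprime hcop
  have hgen : ∀ (x : G) (n : ℕ), (orderOf x).Coprime n → zpowers (x ^ n) = zpowers x := fun x n hn =>
    eq_of_le_of_card_ge (zpowers_le.2 (pow_mem (mem_zpowers x) n))
      (by rw [Nat.card_zpowers, Nat.card_zpowers, hn.orderOf_pow])
  have hp1 : ∀ {x : G} {r : ℕ}, r.Prime → orderOf x = r → zpowers x ≠ ⊥ ∧ TwoPrimes (zpowers x) :=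
    fun hr ho => ⟨fun e => hr.ne_one (by rw [← ho, zpowers_eq_bot.1 e, orderOf_one]),
      twoPrimes_of_dvd (i := 1) (j := 0) hr hr (by rw [Nat.card_zpowers, ho, pow_one, pow_zero, mul_one])⟩
  have hyne : zpowers (x₁ * x₂) ≠ ⊥ := fun e => by
    rw [zpowers_eq_bot.1 e, orderOf_one, ho₁, ho₂] at hy
    exact hp.ne_one (Nat.eq_one_of_mul_eq_one_right hy.symm)
  have hy2 : TwoPrimes (zpowers (x₁ * x₂)) := twoPrimes_of_dvd (i := 1) (j := 1) hp hq
    (by rw [Nat.card_zpowers, hy, ho₁, ho₂, pow_one, pow_one])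
  have hmax' := hmax _ hyne hy2
  have e1 : normalizer (zpowers (x₁ * x₂) : Set G) = normalizer (zpowers x₁ : Set G) := by
    have hle := normalizer_zpowers_le_pow (x₁ * x₂) (orderOf x₂)
    rw [hxx.mul_pow, pow_orderOf_eq_one, mul_one, hgen x₁ _ hcop] at hle
    obtain ⟨h1, h2⟩ := hp1 hp ho₁
    exact ((hmax'.le_iff.1 hle).resolve_left (hmax _ h1 h2).1).symm
  have e2 : normalizer (zpowers (x₁ * x₂) : Set G) = normalizer (zpowers x₂ : Set G) := by
    have hle := normalizer_zpowers_le_pow (x₁ * x₂) (orderOf x₁)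
    rw [hxx.mul_pow, pow_orderOf_eq_one, one_mul, hgen x₂ _ hcop.symm] at hle
    obtain ⟨h1, h2⟩ := hp1 hq ho₂
    exact ((hmax'.le_iff.1 hle).resolve_left (hmax _ h1 h2).1).symm
  have hle : M₂ ≤ normalizer (zpowers x₂ : Set G) := by
    rw [← e2, e1]
    exact fun g hg => CfsgLib.Invol.mem_normalizer_iff_of_finite fun z hz => by
      obtain ⟨i, rfl⟩ := mem_zpowers_iff.1 hz
      rw [← ((hc x₁ hx₁ g hg).zpow_left i).eq, mul_inv_cancel_right]
      exact zpow_mem (mem_zpowers x₁) i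
  exact (hp1 hq ho₂).1 (hrad _ (IsSubnormal.step _ _ (zpowers_le.2 hx₂) h₂
    ((normal_subgroupOf_iff_le_normalizer (zpowers_le.2 hx₂)).2 hle))
    (isSolvable_of_twoPrimes (hp1 hq ho₂).2))

/-- With trivial radical the group is almost simple. -/
theorem exists_core (hrad : ∀ M : Subgroup G, M.IsSubnormal → Group.IsSolvable M → M = ⊥)
    (hmax : ∀ H : Subgroup G, H ≠ ⊥ → TwoPrimes H → IsCoatom (normalizer (H : Set G))) [Nontrivial G] :
    ∃ S : Subgroup G, Core G S := by
  obtain ⟨N, ⟨hNn, hN0⟩, hNmin⟩ := Set.Finite.exists_minimalFor (fun H : Subgroup G => Nat.card H)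
    {H : Subgroup G | H.Normal ∧ H ≠ ⊥} (Set.toFinite _)
    ⟨⊤, show (⊤ : Subgroup G).Normal from inferInstance, top_ne_bot⟩
  haveI := hNn
  have hsub : ∀ M : Subgroup G, M ≤ N → N ≤ normalizer (M : Set G) → M.IsSubnormal := fun M hM hn =>
    IsSubnormal.step _ _ hM hNn.isSubnormal ((normal_subgroupOf_iff_le_normalizer hM).2 hn)
  have hZ : N ⊓ centralizer (N : Set G) = ⊥ := by
    refine hrad _ (hsub _ inf_le_left ?_) (Group.isSolvable_of_comm fun x y => Subtype.ext
      (mem_centralizer_iff.1 y.2.2 x x.2.1))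
    rw [normalizer_eq_top_iff.2 inferInstance]
    exact le_top
  have hC : centralizer (N : Set G) = ⊥ := by
    by_contra hC
    exact no_two hrad hmax hNn.isSubnormal (show (centralizer (N : Set G)).Normal from
      inferInstance).isSubnormal hN0 hC fun x hx y hy => mem_centralizer_iff.1 hy x hx
  have hnc : ¬ IsMulCommutative N := fun hc => by
    refine hN0 (hrad N hNn.isSubnormal ?_)
    exact Group.isSolvable_of_comm fun x y => hc.is_comm.comm x y
  refine ⟨N, hNn, ?_, hnc, hC, hmax⟩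
  haveI : Nontrivial N := (Subgroup.nontrivial_iff_ne_bot N).2 hN0
  -- minimal subgroups normalized by `N` are all of it
  have hall : ∀ L : Subgroup G, L ≤ N → N ≤ normalizer (L : Set G) → L ≠ ⊥ →
      (∀ M : Subgroup G, M ≤ L → N ≤ normalizer (M : Set G) → M ≠ ⊥ → M = L) → L = N := by
    intro L hLN hLn hL0 hmin
    suffices L.Normal by
      exact eq_of_le_of_card_ge hLN (hNmin ⟨this, hL0⟩ (card_le_of_le hLN))
    refine normalizer_eq_top_iff.1 (eq_top_iff.2 fun g _ => ?_)
    set L' := L.map (MulAut.conj g).toMonoidHom with hL'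
    have hL'N : L' ≤ N := by
      rintro _ ⟨x, hx, rfl⟩
      exact hNn.conj_mem x (hLN hx) g
    have hL'n : N ≤ normalizer (L' : Set G) := fun n hn =>
      CfsgLib.Invol.mem_normalizer_iff_of_finite fun z hz => by
        obtain ⟨x, hx, rfl⟩ := hz
        refine ⟨(g⁻¹ * n * g) * x * (g⁻¹ * n * g)⁻¹, (mem_normalizer_iff.1
          (hLn (by simpa using hNn.conj_mem n hn g⁻¹)) x).1 hx, ?_⟩
        simp [MulAut.conj_apply, mul_assoc]
    have hI : N ≤ normalizer ((L ⊓ L' : Subgroup G) : Set G) :=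
      (le_inf hLn hL'n).trans Subgroup.inf_normalizer_le_normalizer_inf
    by_cases hII : L ⊓ L' = ⊥
    · exfalso
      have hL'0 : L' ≠ ⊥ := fun e => hL0 ((map_eq_bot_iff_of_injective L (MulEquiv.injective _)).1 e)
      refine no_two hrad hmax (hsub L hLN hLn) (hsub L' hL'N hL'n) hL0 hL'0 fun x hx y hy => ?_
      have h1 : x * y * x⁻¹ * y⁻¹ ∈ L ⊓ L' := ⟨by
          rw [mul_assoc x y, mul_assoc x]
          exact mul_mem hx ((mem_normalizer_iff.1 (hLn (hL'N hy)) _).1 (inv_mem hx)),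
        L'.mul_mem ((mem_normalizer_iff.1 (hL'n (hLN hx)) y).1 hy) (L'.inv_mem hy)⟩
      rw [hII, mem_bot, mul_inv_eq_one, mul_inv_eq_iff_eq_mul] at h1
      exact h1
    · have e : L ⊓ L' = L := hmin _ inf_le_left hI hII
      have e' : L = L' := eq_of_le_of_card_ge (e ▸ inf_le_right)
        (by rw [hL', card_map_of_injective (MulEquiv.injective _)])
      refine CfsgLib.Invol.mem_normalizer_iff_of_finite fun z hz => ?_
      rw [e']
      exact ⟨z, hz, rfl⟩
  refine ⟨fun M hM => ?_⟩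
  by_cases hM0 : M = ⊥
  · exact Or.inl hM0
  right
  have hMn : N ≤ normalizer ((M.map N.subtype : Subgroup G) : Set G) := fun n hn =>
    CfsgLib.Invol.mem_normalizer_iff_of_finite fun z hz => by
      obtain ⟨x, hx, rfl⟩ := hz
      exact ⟨⟨n, hn⟩ * x * ⟨n, hn⟩⁻¹, hM.conj_mem x hx _, rfl⟩
  obtain ⟨L, ⟨hLM, hLn, hL0⟩, hLmin⟩ := Set.Finite.exists_minimalFor (fun H : Subgroup G => Nat.card H)
    {H : Subgroup G | H ≤ M.map N.subtype ∧ N ≤ normalizer (H : Set G) ∧ H ≠ ⊥} (Set.toFinite _)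
    ⟨_, le_rfl, hMn, fun e => hM0 ((map_eq_bot_iff_of_injective M N.subtype_injective).1 e)⟩
  have hLN : L = N := hall L (hLM.trans (map_subtype_le M)) hLn hL0 fun M' h1 h2 h3 =>
    eq_of_le_of_card_ge h1 (hLmin ⟨h1.trans hLM, h2, h3⟩ (card_le_of_le h1))
  rw [eq_top_iff]
  intro x _
  obtain ⟨y, hy, e⟩ := hLM (hLN.symm ▸ x.2 : (x : G) ∈ L)
  rwa [← N.subtype_injective e]

/-- Modulo the radical: an almost simple group with the hypothesis. -/
theorem exists_core_quotient (hG : ¬ Group.IsSolvable G) (h : Hyp G)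
    [(Cfsg.solvableRadical G).Normal] : ∃ S : Subgroup (G ⧸ Cfsg.solvableRadical G), Core _ S := by
  set R := Cfsg.solvableRadical G with hR
  have hRs : Group.IsSolvable R := CfsgLib.InvChar.ConjRank.solvableRadical_spec.2
  set π := QuotientGroup.mk' R with hπ
  have hπs : Function.Surjective π := QuotientGroup.mk'_surjective R
  have hker : π.ker = R := QuotientGroup.ker_mk' R
  haveI : Nontrivial (G ⧸ R) := by
    rw [← not_subsingleton_iff_nontrivial]
    intro hs
    exact hG (CfsgLib.InvChar.ConjRank.isSolvable_of_quotient R hRs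
      (Group.isSolvable_of_comm fun x y => Subsingleton.elim _ _))
  have hrad : ∀ M : Subgroup (G ⧸ R), M.IsSubnormal → Group.IsSolvable M → M = ⊥ := by
    intro M hM hs
    obtain ⟨N, hN, hle, hNs⟩ := CfsgLib.Comp.exists_normal_solvable_of_isSubnormal hM hs
    haveI := hN
    have hs' : Group.IsSolvable ↥(N.comap π) := by
      haveI := hNs
      haveI := hRs
      let f : R →* ↥(N.comap π) := inclusion fun x hx => by
        rw [mem_comap, show π x = 1 from (QuotientGroup.eq_one_iff x).2 hx]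
        exact one_mem N
      refine Group.isSolvable_of_ker_le_range f
        ((π.comp (N.comap π).subtype).codRestrict N fun x => x.2) fun x hx => ?_
      have hx' : π x = 1 := congrArg Subtype.val hx
      exact ⟨⟨x, (QuotientGroup.eq_one_iff (x : G)).1 hx'⟩, rfl⟩
    have hle' := CfsgLib.InvChar.ConjRank.le_solvableRadical (hN.comap π) hs'
    refine eq_bot_iff.2 (hle.trans ?_)
    rw [← map_comap_eq_self_of_surjective hπs N, ← (Subgroup.map_eq_bot_iff (f := π) R).2 hker.ge]
    exact map_mono hle'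
  refine exists_core hrad fun Hb hne h2 => ?_
  obtain ⟨H, hH, hpr⟩ := exists_lift π hπs Hb
  obtain ⟨p, q, hp, hq, hall⟩ := h2
  have hH2 : TwoPrimes H := ⟨p, q, hp, hq, fun r hr hd => hall r hr (hpr r hr hd)⟩
  have hsn : ¬ H.IsSubnormal := fun hsn => hne (by
    rw [← hH, Subgroup.map_eq_bot_iff, hker]
    exact le_radical_of_isSubnormal hsn (isSolvable_of_twoPrimes hH2))
  have hM := h H hsn hH2
  have htop : normalizer (Hb : Set (G ⧸ R)) ≠ ⊤ := fun e => hne (hrad Hb
    (normalizer_eq_top_iff.1 e).isSubnormal (isSolvable_of_twoPrimes ⟨p, q, hp, hq, hall⟩))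
  have hle : normalizer (H : Set G) ≤ (normalizer (Hb : Set (G ⧸ R))).comap π := by
    rw [← map_le_iff_le_comap, ← hH]
    exact le_normalizer_map π
  have heq := (hM.le_iff.1 hle).resolve_left fun e => htop (by
    rw [← map_comap_eq_self_of_surjective hπs (normalizer (Hb : Set (G ⧸ R))), e,
      map_top_of_surjective π hπs])
  refine ⟨htop, fun K hK => ?_⟩
  have : (normalizer (Hb : Set (G ⧸ R))).comap π < K.comap π :=
    (Subgroup.comap_lt_comap_of_surjective hπs).2 hK
  rw [heq] at this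
  rw [← map_comap_eq_self_of_surjective hπs K, hM.2 _ this, map_top_of_surjective π hπs]

end CfsgLib.FGS.MaxNorm
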