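import Cfsg.Agent.Lib.FGS.MaxNormalizer.Radical
import Cfsg.Agent.Lib.FGS.MaxNormalizer.Model
import Cfsg.Agent.Lib.Recog.GW.CoverSL
import Cfsg.Agent.Lib.Recog.NormCyclic.Basic
import Cfsg.Agent.S2086
import Mathlib.Algebra.Group.Shrink

/-!
S4233: the lift from the quotient by the solvable radical.
-/

set_option autoImplicit false
set_option linter.unusedSectionVars false
set_option linter.style.haveILetI false

namespace CfsgLib.FGS.MaxNorm

open Subgroup
open scoped commutatorElement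

universe u

theorem closure_prime_power {G : Type*} [Group G] [Finite G] :
    closure {x : G | ∃ p k : ℕ, p.Prime ∧ orderOf x = p ^ k} = ⊤ := by
  set W := closure {x : G | ∃ p k : ℕ, p.Prime ∧ orderOf x = p ^ k}
  rw [← index_eq_one]
  by_contra hne
  obtain ⟨p, hp, hd⟩ := Nat.exists_prime_and_dvd hne
  haveI := Fact.mk hp
  obtain ⟨P⟩ : Nonempty (Sylow p G) := inferInstance
  refine P.not_dvd_index (hd.trans (index_dvd_of_le fun x hx => subset_closure ?_))
  obtain ⟨k, hk⟩ := (IsPGroup.iff_orderOf.1 P.2) ⟨x, hx⟩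
  exact ⟨p, k, hp, by rw [← hk, Subgroup.orderOf_mk]⟩

/-- A perfect central extension of `PSL₂(13)` is the group or its double cover. -/
theorem cover_cases {H : Type u} [Group H] [Finite H] (hH : commutator H = ⊤) (f : H →* L13)
    (hf : Function.Surjective f) (hc : f.ker ≤ center H) :
    Nat.card f.ker ≤ 2 ∧ (Nonempty (H ≃* L13) ∨ Nonempty (H ≃* S13)) := by
  let e : Shrink.{0} H ≃* H := { (equivShrink.{0} H).symm with map_mul' := equivShrink_symm_mul }
  let g : Shrink.{0} H →* L13 := f.comp e.toMonoidHom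
  haveI : Finite (Shrink.{0} H) := Finite.of_equiv H (equivShrink.{0} H)
  have hg : Cfsg.IsStemExtension g := by
    refine ⟨hf.comp e.surjective, fun x hx => mem_center_iff.2 fun y => e.injective ?_, ?_⟩
    · rw [map_mul, map_mul]
      exact mem_center_iff.1 (hc (show e x ∈ f.ker from hx)) (e y)
    · intro x _
      have hx : e x ∈ commutator H := hH ▸ mem_top _
      have hm : (commutator (Shrink.{0} H)).map e.toMonoidHom = commutator H := by
        rw [_root_.commutator_def, map_commutator, map_top_of_surjective _ e.surjective,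
          ← _root_.commutator_def]
      rw [← hm] at hx
      obtain ⟨z, hz, hze⟩ := hx
      exact e.injective hze ▸ hz
  have hm : Cfsg.HasCyclicSchurMultiplier L13 2 := by
    have h' := Cfsg.Agent.S2086.result (F := ZMod 13) (ZMod.card 13) 2 le_rfl (by norm_num) (by simp)
    rwa [show Nat.gcd 2 (13 - 1) = 2 by decide] at h'
  obtain ⟨π, hπ⟩ := hm.2 _ g hg
  have h2 : Nat.card g.ker ≤ 2 := by
    refine (Nat.card_le_card_of_surjective π hπ).trans ?_
    rw [Nat.card_congr Multiplicative.toAdd, Nat.card_zmod]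
  have hk : Nat.card f.ker = Nat.card g.ker := by
    refine Nat.card_congr ⟨fun x => ⟨e.symm x.1, ?_⟩, fun x => ⟨e x.1, x.2⟩, fun x => ?_, fun x => ?_⟩
    · show f (e (e.symm x.1)) = 1
      rw [e.apply_symm_apply]; exact x.2
    · exact Subtype.ext (e.apply_symm_apply _)
    · exact Subtype.ext (e.symm_apply_apply _)
  refine ⟨hk ▸ h2, ?_⟩
  have hpos : 0 < Nat.card f.ker := Nat.card_pos
  rcases (show Nat.card f.ker = 1 ∨ Nat.card f.ker = 2 by omega) with h1 | h1
  · exact Or.inl ⟨MulEquiv.ofBijective f ⟨(f.ker_eq_bot_iff).1 (card_eq_one.1 h1), hf⟩⟩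
  · exact Or.inr (CfsgLib.Recog.GW.equiv_sl_of_cover (by rw [ZMod.card]; decide)
      (by rw [ZMod.card]; norm_num) hH f hf hc h1)

variable {G : Type u} [Group G] [Finite G]

/-- The kernel data of the lifting step. -/
structure Lift (φ : G →* L13) : Prop where
  surj : Function.Surjective φ
  hyp : Hyp G
  sol : ∀ M : Subgroup G, M.IsSubnormal → Group.IsSolvable M → M ≤ φ.ker

namespace Lift

variable {φ : G →* L13} (d : Lift φ)

include d

/-- The normalizer of a small subgroup outside the radical is the whole preimage. -/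
theorem normalizer_eq {H : Subgroup G} (h2 : TwoPrimes H) (hH : ¬ H ≤ φ.ker) :
    normalizer (H : Set G) = (normalizer ((H.map φ : Subgroup L13) : Set L13)).comap φ := by
  have hs := isSolvable_of_twoPrimes h2
  have hM := d.hyp H (fun hsn => hH (d.sol H hsn hs)) h2
  have hle : normalizer (H : Set G) ≤ (normalizer ((H.map φ : Subgroup L13) : Set L13)).comap φ := by
    rw [← map_le_iff_le_comap]; exact le_normalizer_map φ
  refine ((hM.le_iff.1 hle).resolve_left fun e => ?_).symm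
  haveI := isSimple_L13
  have hn : (H.map φ).Normal := normalizer_eq_top_iff.1 (by
    rw [← map_comap_eq_self_of_surjective d.surj (normalizer ((H.map φ : Subgroup L13) : Set L13)), e,
      map_top_of_surjective φ d.surj])
  rcases hn.eq_bot_or_eq_top with e' | e'
  · exact hH ((Subgroup.map_eq_bot_iff _).1 e')
  · haveI := hs
    refine not_solvable_L13 (Group.isSolvable_of_surjective (f := φ.comp H.subtype) fun z => ?_)
    obtain ⟨x, hx, rfl⟩ := (e' ▸ mem_top z : z ∈ H.map φ)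
    exact ⟨⟨x, hx⟩, rfl⟩

theorem ker_le_normalizer {H : Subgroup G} (h2 : TwoPrimes H) (hH : ¬ H ≤ φ.ker) :
    φ.ker ≤ normalizer (H : Set G) := fun r hr => by
  rw [d.normalizer_eq h2 hH, mem_comap, MonoidHom.mem_ker.1 hr]
  exact one_mem _

theorem conj_mem_zpowers {y c : G} {l k : ℕ} (hl : l.Prime) (hy : orderOf y = l ^ k) (hyR : y ∉ φ.ker)
    (hc : c ∈ φ.ker) : c * y * c⁻¹ ∈ zpowers y :=
  (mem_normalizer_iff.1 (d.ker_le_normalizer (twoPrimes_of_dvd (i := k) (j := 0) hl hl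
    (by rw [Nat.card_zpowers, hy, pow_zero, mul_one])) (fun hle => hyR (hle (mem_zpowers y))) hc) y).1
    (mem_zpowers y)

theorem commute_derived {y : G} {l k : ℕ} (hl : l.Prime) (hy : orderOf y = l ^ k) (hyR : y ∉ φ.ker)
    {w : G} (hw : w ∈ ⁅φ.ker, φ.ker⁆) : Commute y w := by
  have hle : ⁅φ.ker, φ.ker⁆ ≤ centralizer ({y} : Set G) := by
    refine Subgroup.commutator_le.2 fun a ha b hb => ?_
    obtain ⟨i, hi⟩ := mem_zpowers_iff.1 (d.conj_mem_zpowers hl hy hyR ha)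
    obtain ⟨i', hi'⟩ := mem_zpowers_iff.1 (d.conj_mem_zpowers hl hy hyR (inv_mem ha))
    obtain ⟨j, hj⟩ := mem_zpowers_iff.1 (d.conj_mem_zpowers hl hy hyR hb)
    obtain ⟨j', hj'⟩ := mem_zpowers_iff.1 (d.conj_mem_zpowers hl hy hyR (inv_mem hb))
    rw [inv_inv] at hi' hj'
    have ha' : y ^ (i * i') = y := by
      rw [zpow_mul, hi, conj_zpow, hi']; group
    have hb' : y ^ (j * j') = y := by
      rw [zpow_mul, hj, conj_zpow, hj']; group
    refine mem_centralizer_singleton_iff.2 (mul_inv_eq_iff_eq_mul.1 ?_)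
    calc ⁅a, b⁆ * y * ⁅a, b⁆⁻¹ = a * (b * (a⁻¹ * (b⁻¹ * y * b) * a) * b⁻¹) * a⁻¹ := by
          rw [commutatorElement_def]; group
      _ = y ^ (i * i' * (j * j')) := by
        rw [← hj', show a⁻¹ * y ^ j' * a = (a⁻¹ * y * a) ^ j' by
            rw [show a⁻¹ * y * a = a⁻¹ * y * a⁻¹⁻¹ by rw [inv_inv], conj_zpow, inv_inv],
          ← hi', ← zpow_mul, ← conj_zpow (a := b), ← hj, ← zpow_mul, ← conj_zpow (a := a), ← hi,
          ← zpow_mul]
        congr 1
        ring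
      _ = y := by rw [zpow_mul, ha', hb']
  exact (mem_centralizer_singleton_iff.1 (hle hw)).symm

theorem exists_minimal_cover : ∃ K : Subgroup G, K.Normal ∧ K.map φ = ⊤ ∧
    ∀ N : Subgroup G, N.Normal → N ≤ K → N.map φ = ⊤ → N = K := by
  obtain ⟨K, ⟨hKn, hK⟩, hmin⟩ := Set.Finite.exists_minimalFor (fun H : Subgroup G => Nat.card H)
    {H : Subgroup G | H.Normal ∧ H.map φ = ⊤} (Set.toFinite _)
    ⟨⊤, show (⊤ : Subgroup G).Normal from inferInstance, map_top_of_surjective φ d.surj⟩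
  exact ⟨K, hKn, hK, fun N hN hle hNm => eq_of_le_of_card_ge hle (hmin ⟨hN, hNm⟩ (card_le_of_le hle))⟩

section Cover

variable {K : Subgroup G} (hKn : K.Normal) (hK : K.map φ = ⊤)
  (hKmin : ∀ N : Subgroup G, N.Normal → N ≤ K → N.map φ = ⊤ → N = K)

include hKn hK hKmin

theorem cover_perfect : ⁅K, K⁆ = K := by
  haveI := hKn
  refine hKmin _ inferInstance (commutator_le_left K K) ?_
  rw [map_commutator, hK, ← _root_.commutator_def, perfect_L13]

/-- The elements of a prime power order outside the radical generate the cover. -/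
theorem le_closure {l : ℕ} (hl : l.Prime) (hld : l ∣ 1092) :
    K ≤ closure {y : G | (∃ k, orderOf y = l ^ k) ∧ y ∉ φ.ker} := by
  haveI := hKn
  haveI := Fact.mk hl
  set Y : Set G := {y : G | (∃ k, orderOf y = l ^ k) ∧ y ∉ φ.ker}
  haveI hN : (closure Y).Normal := by
    rw [← normalizer_eq_top_iff, eq_top_iff]
    intro g _
    refine CfsgLib.Invol.mem_normalizer_iff_of_finite fun z hz => ?_
    have hle : closure Y ≤ (closure Y).comap (MulAut.conj g).toMonoidHom := by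
      rw [closure_le]
      rintro y ⟨⟨k, hk⟩, hy⟩
      refine subset_closure ⟨⟨k, ?_⟩, fun h' => hy ?_⟩
      · exact (orderOf_injective _ (MulEquiv.injective (MulAut.conj g)) y).trans hk
      · simpa [mul_assoc] using (MonoidHom.normal_ker φ).conj_mem _ h' g⁻¹
    exact hle hz
  obtain ⟨zb, hzb⟩ := exists_prime_orderOf_dvd_card' (G := L13) l (by rw [card_L13]; exact hld)
  obtain ⟨y0, hy0⟩ := d.surj zb
  obtain ⟨e, m, hm, hem⟩ := Nat.exists_eq_pow_mul_and_not_dvd (orderOf_pos y0).ne' l hl.ne_one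
  have hm0 : m ≠ 0 := fun e' => hm (e' ▸ dvd_zero l)
  have hyY : y0 ^ m ∈ Y := by
    refine ⟨⟨e, ?_⟩, fun h' => hm ?_⟩
    · rw [orderOf_pow_of_dvd hm0 ⟨l ^ e, by rw [hem, mul_comm]⟩, hem,
        Nat.mul_div_cancel _ (Nat.pos_of_ne_zero hm0)]
    · have h1 : zb ^ m = 1 := by rw [← hy0, ← map_pow]; exact h'
      rw [← hzb]
      exact orderOf_dvd_of_pow_eq_one h1
  have hNtop : (closure Y).map φ = ⊤ := by
    haveI := isSimple_L13
    refine ((hN.map φ d.surj).eq_bot_or_eq_top).resolve_left fun e' => hyY.2 ?_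
    exact (Subgroup.map_eq_bot_iff _).1 e' (subset_closure hyY)
  have heq : ⁅K, closure Y⁆ = K := hKmin _ inferInstance (commutator_le_left K _) (by
    rw [map_commutator, hK, hNtop, ← _root_.commutator_def, perfect_L13])
  exact heq ▸ commutator_le_right K (closure Y)

theorem commutes_derived : ⁅⁅φ.ker, φ.ker⁆, K⁆ = ⊥ := by
  rw [commutator_eq_bot_iff_le_centralizer]
  intro w hw
  refine mem_centralizer_iff.2 fun x hx => ?_
  have hle : closure {y : G | (∃ k, orderOf y = 3 ^ k) ∧ y ∉ φ.ker} ≤ centralizer ({w} : Set G) := by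
    rw [closure_le]
    rintro y ⟨⟨k, hk⟩, hy⟩
    exact mem_centralizer_singleton_iff.2 (d.commute_derived Nat.prime_three hk hy hw).eq
  exact mem_centralizer_singleton_iff.1 (hle (d.le_closure hKn hK hKmin Nat.prime_three (by norm_num) hx))

theorem commutator_le_derived : ⁅K, φ.ker⁆ ≤ ⁅φ.ker, φ.ker⁆ := by
  haveI := hKn
  set R' := ⁅φ.ker, φ.ker⁆ with hR'
  refine Subgroup.commutator_le.2 fun x hx c hc => ?_
  let T : Subgroup G :=
    { carrier := {c : G | ⁅x, c⁆ ∈ R'}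
      one_mem' := by show ⁅x, (1 : G)⁆ ∈ R'; rw [commutatorElement_one_right]; exact one_mem _
      mul_mem' := fun {a b} ha hb => by
        show ⁅x, a * b⁆ ∈ R'
        rw [show ⁅x, a * b⁆ = ⁅x, a⁆ * (a * ⁅x, b⁆ * a⁻¹) by simp only [commutatorElement_def]; group]
        exact mul_mem ha ((inferInstance : R'.Normal).conj_mem _ hb a)
      inv_mem' := fun {a} ha => by
        show ⁅x, a⁻¹⁆ ∈ R'
        rw [show ⁅x, a⁻¹⁆ = a⁻¹ * ⁅x, a⁆⁻¹ * a⁻¹⁻¹ by simp only [commutatorElement_def]; group]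
        exact (inferInstance : R'.Normal).conj_mem _ (inv_mem ha) _ }
  have hT : φ.ker ≤ T := by
    have hcl := congrArg (Subgroup.map φ.ker.subtype) (closure_prime_power (G := φ.ker))
    rw [MonoidHom.map_closure, ← MonoidHom.range_eq_map, range_subtype] at hcl
    rw [← hcl, closure_le]
    rintro _ ⟨⟨c, hc⟩, ⟨p, k, hp, hk⟩, rfl⟩
    rw [Subgroup.orderOf_mk] at hk
    obtain ⟨l, hl, hld, hlp⟩ : ∃ l : ℕ, l.Prime ∧ l ∣ 1092 ∧ l ≠ p := by
      by_cases h3 : p = 3
      · exact ⟨7, by norm_num, by norm_num, by omega⟩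
      · exact ⟨3, by norm_num, by norm_num, Ne.symm h3⟩
    let U : Subgroup G :=
      { carrier := {g : G | ⁅g, c⁆ ∈ R'}
        one_mem' := by show ⁅(1 : G), c⁆ ∈ R'; rw [commutatorElement_one_left]; exact one_mem _
        mul_mem' := fun {g g'} hg hg' => by
          show ⁅g * g', c⁆ ∈ R'
          rw [show ⁅g * g', c⁆ = g * ⁅g', c⁆ * g⁻¹ * ⁅g, c⁆ by simp only [commutatorElement_def]; group]
          exact mul_mem ((inferInstance : R'.Normal).conj_mem _ hg' g) hg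
        inv_mem' := fun {g} hg => by
          show ⁅g⁻¹, c⁆ ∈ R'
          rw [show ⁅g⁻¹, c⁆ = g⁻¹ * ⁅g, c⁆⁻¹ * g⁻¹⁻¹ by simp only [commutatorElement_def]; group]
          exact (inferInstance : R'.Normal).conj_mem _ (inv_mem hg) _ }
    refine (show K ≤ U from (d.le_closure hKn hK hKmin hl hld).trans ?_) hx
    rw [closure_le]
    rintro y ⟨⟨e, he⟩, hy⟩
    show ⁅y, c⁆ ∈ R'
    set w := c⁻¹ * (y * c * y⁻¹) with hw
    have hwy : w ∈ zpowers y := by
      rw [show w = (c⁻¹ * y * c⁻¹⁻¹) * y⁻¹ by rw [hw]; group]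
      exact mul_mem (d.conj_mem_zpowers hl he hy (inv_mem hc)) (inv_mem (mem_zpowers y))
    have hwR : w ∈ φ.ker := mul_mem (inv_mem hc) ((MonoidHom.normal_ker φ).conj_mem c hc y)
    let q := QuotientGroup.mk' R'
    have hqc : Commute (q c) (q w) := by
      have h' : q ⁅c, w⁆ = 1 := (QuotientGroup.eq_one_iff _).2 (commutator_mem_commutator hc hwR)
      rw [map_commutatorElement, commutatorElement_eq_one_iff_mul_comm] at h'
      exact h'
    have h1 : q w ^ p ^ k = 1 := by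
      have h2 : (c * w) ^ p ^ k = 1 := by
        rw [show c * w = y * c * y⁻¹ by rw [hw]; group, conj_pow, ← hk, pow_orderOf_eq_one, mul_one,
          mul_inv_cancel]
      have h3 := congrArg q h2
      rw [map_pow, map_mul, hqc.mul_pow, ← map_pow q c, ← hk, pow_orderOf_eq_one, map_one,
        one_mul, hk] at h3
      exact h3
    have h4 : q w ^ l ^ e = 1 := by
      obtain ⟨i, hi⟩ := mem_zpowers_iff.1 hwy
      rw [← map_pow, ← hi, ← zpow_natCast, ← zpow_mul, mul_comm, zpow_mul, zpow_natCast, ← he,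
        pow_orderOf_eq_one, one_zpow, map_one]
    have h5 : w ∈ R' := (QuotientGroup.eq_one_iff w).1 (orderOf_eq_one_iff.1
      (Nat.eq_one_of_dvd_coprimes (((Nat.coprime_primes hp hl).2 (Ne.symm hlp)).pow k e)
        (orderOf_dvd_of_pow_eq_one h1) (orderOf_dvd_of_pow_eq_one h4)))
    rw [show ⁅y, c⁆ = c * w * c⁻¹ by rw [hw, commutatorElement_def]; group]
    exact (inferInstance : R'.Normal).conj_mem _ h5 c
  exact hT hc

/-- The cover centralizes the radical. -/
theorem commute_ker {x c : G} (hx : x ∈ K) (hc : c ∈ φ.ker) : Commute x c := by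
  haveI := hKn
  have h1 : ⁅⁅K, φ.ker⁆, K⁆ = ⊥ := by
    rw [← le_bot_iff, ← d.commutes_derived hKn hK hKmin]
    exact commutator_mono (d.commutator_le_derived hKn hK hKmin) le_rfl
  have h2 : ⁅⁅φ.ker, K⁆, K⁆ = ⊥ := by rwa [commutator_comm φ.ker K]
  have h3 := commutator_commutator_eq_bot_of_rotate h1 h2
  rw [d.cover_perfect hKn hK hKmin] at h3
  have h4 := commutator_mem_commutator hx hc
  rw [h3, mem_bot, commutatorElement_eq_one_iff_mul_comm] at h4
  exact h4

theorem exists_mul (g : G) : ∃ x ∈ K, ∃ c ∈ φ.ker, g = x * c := by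
  obtain ⟨x, hx, hxg⟩ := (hK ▸ mem_top (φ g) : φ g ∈ K.map φ)
  refine ⟨x, hx, x⁻¹ * g, ?_, by group⟩
  rw [MonoidHom.mem_ker, map_mul, map_inv, hxg, inv_mul_cancel]

theorem cover_structure : Nat.card ↥(K ⊓ φ.ker) ≤ 2 ∧
    (Nonempty (K ≃* L13) ∨ Nonempty (K ≃* S13)) := by
  have hf : Function.Surjective (φ.comp K.subtype) := fun z => by
    obtain ⟨x, hx, rfl⟩ := (hK ▸ mem_top z : z ∈ K.map φ)
    exact ⟨⟨x, hx⟩, rfl⟩
  have hp : commutator K = ⊤ := by
    refine map_injective K.subtype_injective ?_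
    rw [map_subtype_commutator, d.cover_perfect hKn hK hKmin, ← MonoidHom.range_eq_map, range_subtype]
  obtain ⟨h1, h2⟩ := cover_cases hp (φ.comp K.subtype) hf fun x hx => mem_center_iff.2 fun y =>
    Subtype.ext (d.commute_ker hKn hK hKmin y.2 hx).eq
  refine ⟨le_trans (le_of_eq ?_) h1, h2⟩
  exact Nat.card_congr ⟨fun x => ⟨⟨x.1, x.2.1⟩, x.2.2⟩, fun x => ⟨x.1.1, x.1.2, x.2⟩, fun _ => rfl,
    fun _ => rfl⟩

theorem sq_eq_one {z : G} (hz : z ∈ K ⊓ φ.ker) : z ^ 2 = 1 := by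
  have h2 := (d.cover_structure hKn hK hKmin).1
  have h := orderOf_dvd_natCard _ hz
  have hpos : 0 < Nat.card ↥(K ⊓ φ.ker) := Nat.card_pos
  apply orderOf_dvd_iff_pow_eq_one.1
  rcases (show Nat.card ↥(K ⊓ φ.ker) = 1 ∨ Nat.card ↥(K ⊓ φ.ker) = 2 by omega) with e | e <;>
    rw [e] at h
  · exact h.trans (one_dvd 2)
  · exact h

/-- Over a prime order element of the quotient: one in the cover, inverted there. -/
theorem exists_inverted_lift {l : ℕ} (hl : l = 3 ∨ l = 7 ∨ l = 13) :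
    ∃ y ∈ K, ∃ k ∈ K, orderOf y = l ∧ y ∉ φ.ker ∧ k * y * k⁻¹ = y⁻¹ := by
  obtain ⟨yb, kb, hyb, hkb⟩ := exists_inverted hl
  obtain ⟨y0, hy0, rfl⟩ := (hK ▸ mem_top yb : yb ∈ K.map φ)
  obtain ⟨k, hk, rfl⟩ := (hK ▸ mem_top kb : kb ∈ K.map φ)
  have hlp : l.Prime := by rcases hl with rfl | rfl | rfl <;> norm_num
  haveI := Fact.mk hlp
  have hcop : Nat.Coprime l 2 := by rcases hl with rfl | rfl | rfl <;> norm_num
  have hz : y0 ^ l ∈ K ⊓ φ.ker := ⟨pow_mem hy0 l, by
    show φ (y0 ^ l) = 1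
    rw [map_pow, ← hyb, pow_orderOf_eq_one]⟩
  have hnot : y0 ^ 2 ∉ φ.ker := fun h' => by
    have h1 : orderOf (φ y0) ∣ 2 := orderOf_dvd_of_pow_eq_one (by rw [← map_pow]; exact h')
    rw [hyb] at h1
    exact hlp.ne_one (Nat.eq_one_of_dvd_coprimes hcop dvd_rfl h1)
  have hyl : (y0 ^ 2) ^ l = 1 := by rw [← pow_mul, mul_comm, pow_mul]; exact d.sq_eq_one hKn hK hKmin hz
  refine ⟨y0 ^ 2, pow_mem hy0 2, k, hk, orderOf_eq_prime hyl (fun e => hnot (e ▸ one_mem _)), hnot, ?_⟩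
  have hc : k * y0 ^ 2 * k⁻¹ * y0 ^ 2 ∈ K ⊓ φ.ker := by
    refine ⟨mul_mem (mul_mem (mul_mem hk (pow_mem hy0 2)) (K.inv_mem hk)) (pow_mem hy0 2), ?_⟩
    show φ (k * y0 ^ 2 * k⁻¹ * y0 ^ 2) = 1
    rw [map_mul, map_mul, map_mul, map_pow, map_inv, ← conj_pow, hkb, inv_pow,
      inv_mul_cancel]
  set z := k * y0 ^ 2 * k⁻¹ * y0 ^ 2 with hzdef
  have hzc : Commute z ((y0 ^ 2)⁻¹) := (d.commute_ker hKn hK hKmin (inv_mem (pow_mem hy0 2)) hc.2).symm
  have hz1 : z ^ l = 1 := by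
    have e : k * y0 ^ 2 * k⁻¹ = z * (y0 ^ 2)⁻¹ := by rw [hzdef]; group
    have := congrArg (fun g => g ^ l) e
    rw [conj_pow, hyl, hzc.mul_pow, inv_pow, hyl, mul_one, mul_inv_cancel, inv_one, mul_one] at this
    exact this.symm
  have hz0 : z = 1 := orderOf_eq_one_iff.1 (Nat.eq_one_of_dvd_coprimes hcop
    (orderOf_dvd_of_pow_eq_one hz1) (orderOf_dvd_of_pow_eq_one (d.sq_eq_one hKn hK hKmin hc)))
  exact eq_inv_of_mul_eq_one_left hz0

theorem no_odd_prime {l : ℕ} (hl : l = 3 ∨ l = 7 ∨ l = 13) {x : G} (hx : x ∈ φ.ker)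
    (hxo : orderOf x = l) : False := by
  obtain ⟨y, hy, k, hk, hyo, hyR, hky⟩ := d.exists_inverted_lift hKn hK hKmin hl
  have hlp : l.Prime := by rcases hl with rfl | rfl | rfl <;> norm_num
  haveI := Fact.mk hlp
  have hxy : Commute y x := d.commute_ker hKn hK hKmin hy hx
  have hyxR : y * x ∉ φ.ker := fun h' => hyR (by simpa using mul_mem h' (inv_mem hx))
  have hyxo : orderOf (y * x) = l := orderOf_eq_prime (by
    rw [hxy.mul_pow, orderOf_dvd_iff_pow_eq_one.1 hyo.dvd, orderOf_dvd_iff_pow_eq_one.1 hxo.dvd, one_mul])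
    (fun e => hyxR (e ▸ one_mem _))
  have hn : ¬ zpowers (y * x) ≤ φ.ker := fun hle => hyxR (hle (mem_zpowers _))
  have h2 : TwoPrimes (zpowers (y * x)) := twoPrimes_of_dvd (i := 1) (j := 0) hlp hlp
    (by rw [Nat.card_zpowers, hyxo, pow_one, pow_zero, mul_one])
  have hkn : k ∈ normalizer (zpowers (y * x) : Set G) := by
    rw [d.normalizer_eq h2 hn, mem_comap]
    refine CfsgLib.Invol.mem_normalizer_iff_of_finite fun z hz => ?_
    rw [MonoidHom.map_zpowers] at hz ⊢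
    obtain ⟨i, rfl⟩ := mem_zpowers_iff.1 hz
    have e : φ k * φ (y * x) * (φ k)⁻¹ = (φ (y * x))⁻¹ := by
      rw [map_mul, MonoidHom.mem_ker.1 hx, mul_one, ← map_inv, ← map_mul, ← map_mul, hky, map_inv]
    rw [← conj_zpow, e]
    exact zpow_mem (inv_mem (mem_zpowers _)) i
  have h3 := (mem_normalizer_iff.1 hkn _).1 (mem_zpowers (y * x))
  have hkx : k * x * k⁻¹ = x := by rw [(d.commute_ker hKn hK hKmin hk hx).eq, mul_inv_cancel_right]
  rw [← conj_mul, hky, hkx] at h3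
  have h4 : x ^ 2 ∈ zpowers (y * x) := by
    have := mul_mem (mem_zpowers (y * x)) h3
    rwa [show y * x * (y⁻¹ * x) = x ^ 2 by rw [hxy.eq, pow_two]; group] at this
  obtain ⟨i, hi⟩ := mem_zpowers_iff.1 h4
  have h5 : (l : ℤ) ∣ i := by
    have h6 : φ y ^ i = 1 := by
      have := congrArg φ hi
      rwa [map_zpow, map_mul, MonoidHom.mem_ker.1 hx, mul_one, map_pow, MonoidHom.mem_ker.1 hx,
        one_pow] at this
    have ho : orderOf (φ y) = l := orderOf_eq_prime
      (by rw [← map_pow, orderOf_dvd_iff_pow_eq_one.1 hyo.dvd, map_one]) hyR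
    rw [← ho]; exact orderOf_dvd_iff_zpow_eq_one.2 h6
  obtain ⟨r, rfl⟩ := h5
  rw [zpow_mul, zpow_natCast, orderOf_dvd_iff_pow_eq_one.1 hyxo.dvd, one_zpow] at hi
  have h7 : orderOf x ∣ 2 := orderOf_dvd_of_pow_eq_one hi.symm
  rw [hxo] at h7
  have := Nat.le_of_dvd two_pos h7
  omega

/-- The elements of 2-power order of the radical lie in the cover. -/
theorem two_mem {x : G} (hx : x ∈ φ.ker) {r : ℕ} (hxo : orderOf x = 2 ^ r) : x ∈ K := by
  haveI := hKn
  haveI : Fact (Nat.Prime 2) := ⟨Nat.prime_two⟩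
  obtain ⟨ab, bb, kb, hao, hbo, hab, hne, hkab, hkbb⟩ := exists_four
  obtain ⟨a, ha, rfl⟩ := (hK ▸ mem_top ab : ab ∈ K.map φ)
  obtain ⟨k, hk, rfl⟩ := (hK ▸ mem_top kb : kb ∈ K.map φ)
  set b := k * a * k⁻¹ with hb
  have hbK : b ∈ K := mul_mem (mul_mem hk ha) (inv_mem hk)
  have hbφ : φ b = bb := by rw [hb, map_mul, map_mul, map_inv, hkab]
  subst hbφ
  set H := zpowers (a * x) ⊔ zpowers b with hH
  set V := zpowers (φ a) ⊔ zpowers (φ b) with hV
  have hmap : H.map φ = V := by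
    rw [hH, hV, Subgroup.map_sup, MonoidHom.map_zpowers, MonoidHom.map_zpowers, map_mul,
      MonoidHom.mem_ker.1 hx, mul_one]
  have hHR : ¬ H ≤ φ.ker := fun hle => by
    have h1 : φ b = 1 := hle (mem_sup_right (mem_zpowers b))
    rw [h1, orderOf_one] at hbo
    norm_num at hbo
  -- a two group contains it
  have hHp : IsPGroup 2 H := by
    have hnV : zpowers (φ b) ≤ normalizer (zpowers (φ a) : Set L13) := zpowers_le.2
      (CfsgLib.Invol.mem_normalizer_iff_of_finite fun z hz => by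
        obtain ⟨i, rfl⟩ := mem_zpowers_iff.1 hz
        rw [← conj_zpow, ← hab, mul_inv_cancel_right]
        exact zpow_mem (mem_zpowers _) i)
    have hVd := CfsgLib.Comp.card_sup_dvd_mul hnV
    rw [Nat.card_zpowers, Nat.card_zpowers, hao, hbo] at hVd
    set P := K ⊓ V.comap φ with hP
    have hPd : Nat.card P ∣ Nat.card ↥(K ⊓ φ.ker) * Nat.card V := by
      set θ : ↥P →* V := (φ.comp P.subtype).codRestrict V fun z => z.2.2
      have h1 := θ.ker.index_mul_card
      rw [index_ker] at h1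
      rw [← h1, mul_comm]
      refine mul_dvd_mul ?_ (card_subgroup_dvd_card _)
      refine Dvd.dvd.trans (dvd_of_eq ?_) dvd_rfl
      exact Nat.card_congr ⟨fun z => ⟨z.1.1, z.1.2.1, congrArg Subtype.val z.2⟩,
        fun z => ⟨⟨z.1, z.2.1, show φ z.1 ∈ V by rw [MonoidHom.mem_ker.1 z.2.2]; exact one_mem _⟩,
          Subtype.ext z.2.2⟩, fun _ => rfl, fun _ => rfl⟩
    have hW : Nat.card ↥(K ⊓ φ.ker) ∣ 2 := by
      have h1 := (d.cover_structure hKn hK hKmin).1
      have h2 : 0 < Nat.card ↥(K ⊓ φ.ker) := Nat.card_pos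
      rcases (show Nat.card ↥(K ⊓ φ.ker) = 1 ∨ Nat.card ↥(K ⊓ φ.ker) = 2 by omega) with e | e <;>
        rw [e]
      exact one_dvd 2
    have hP2 : IsPGroup 2 P := by
      obtain ⟨i, -, hi⟩ := (Nat.dvd_prime_pow Nat.prime_two (m := 3)).1
        ((hPd.trans (mul_dvd_mul hW hVd)).trans (by norm_num))
      exact IsPGroup.of_card hi
    have hxP : zpowers x ≤ normalizer (P : Set G) := zpowers_le.2
      (CfsgLib.Invol.mem_normalizer_iff_of_finite fun z hz => by
        rw [← (d.commute_ker hKn hK hKmin hz.1 hx).eq, mul_inv_cancel_right]; exact hz)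
    have hsum : IsPGroup 2 ↥(P ⊔ zpowers x) := by
      obtain ⟨i, hi⟩ := hP2.exists_card_eq
      have h3 := CfsgLib.Comp.card_sup_dvd_mul hxP
      rw [hi, Nat.card_zpowers, hxo, ← pow_add] at h3
      obtain ⟨j, -, hj⟩ := (Nat.dvd_prime_pow Nat.prime_two).1 h3
      exact IsPGroup.of_card hj
    refine hsum.to_le (sup_le (zpowers_le.2 ?_) (zpowers_le.2 ?_))
    · exact mul_mem (mem_sup_left ⟨ha, mem_sup_left (mem_zpowers _)⟩) (mem_sup_right (mem_zpowers x))
    · exact mem_sup_left ⟨hbK, mem_sup_right (mem_zpowers _)⟩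
  obtain ⟨i, hi⟩ := hHp.exists_card_eq
  have h2 : TwoPrimes H := twoPrimes_of_dvd (i := i) (j := 0) Nat.prime_two Nat.prime_two
    (by rw [hi, pow_zero, mul_one])
  have hkn : k ∈ normalizer (H : Set G) := by
    rw [d.normalizer_eq h2 hHR, mem_comap, hmap]
    refine CfsgLib.Invol.mem_normalizer_iff_of_finite fun z hz => ?_
    have hle : V ≤ V.comap (MulAut.conj (φ k)).toMonoidHom := sup_le
      (zpowers_le.2 (by
        show φ k * φ a * (φ k)⁻¹ ∈ V
        rw [hkab]; exact mem_sup_right (mem_zpowers _)))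
      (zpowers_le.2 (by
        show φ k * φ b * (φ k)⁻¹ ∈ V
        rw [hkbb]; exact mul_mem (mem_sup_left (mem_zpowers _)) (mem_sup_right (mem_zpowers _))))
    exact hle hz
  have hbx : b * x ∈ H := by
    have h1 := (mem_normalizer_iff.1 hkn _).1
      (show a * x ∈ H from mem_sup_left (mem_zpowers (a * x)))
    have hkx : k * x * k⁻¹ = x := by rw [(d.commute_ker hKn hK hKmin hk hx).eq, mul_inv_cancel_right]
    rwa [← conj_mul, hkx] at h1
  have hxH : x ∈ H := by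
    have := H.mul_mem (H.inv_mem (show b ∈ H from mem_sup_right (mem_zpowers b))) hbx
    rwa [inv_mul_cancel_left] at this
  -- the part over the second involution
  set P0 := K ⊓ (zpowers (φ b)).comap φ with hP0
  have hnP0 : zpowers (a * x) ≤ normalizer (P0 : Set G) := zpowers_le.2
    (CfsgLib.Invol.mem_normalizer_iff_of_finite fun z hz => by
      refine ⟨hKn.conj_mem z hz.1 _, ?_⟩
      show φ (a * x * z * (a * x)⁻¹) ∈ zpowers (φ b)
      obtain ⟨i, hi⟩ := mem_zpowers_iff.1 (show φ z ∈ zpowers (φ b) from hz.2)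
      rw [show φ (a * x * z * (a * x)⁻¹) = φ a * φ z * (φ a)⁻¹ by simp [MonoidHom.mem_ker.1 hx],
        ← hi,
        ((Commute.zpow_right hab i : Commute (φ a) _)).eq, mul_inv_cancel_right]
      exact zpow_mem (mem_zpowers _) i)
  have hxm : x ∈ ((P0 ⊔ zpowers (a * x) : Subgroup G) : Set G) :=
    (sup_le le_sup_right ((zpowers_le.2 (show b ∈ P0 from Subgroup.mem_inf.2 ⟨hbK, mem_zpowers _⟩)).trans le_sup_left) :
      H ≤ P0 ⊔ zpowers (a * x)) hxH
  rw [coe_mul_of_right_le_normalizer_left P0 _ hnP0] at hxm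
  obtain ⟨p, hp, q, hq, hpq⟩ := hxm
  obtain ⟨j, rfl⟩ := mem_zpowers_iff.1 hq
  have hax : Commute a x := d.commute_ker hKn hK hKmin ha hx
  have hφ := congrArg φ hpq
  rw [map_mul, map_zpow, map_mul, MonoidHom.mem_ker.1 hx, mul_one] at hφ
  obtain ⟨m, hm⟩ := mem_zpowers_iff.1 (show φ p ∈ zpowers (φ b) from hp.2)
  have hbsq : φ b ^ (2 : ℤ) = 1 := by
    rw [zpow_two, ← pow_two]; exact orderOf_dvd_iff_pow_eq_one.1 hbo.dvd
  have hasq : φ a ^ (2 : ℤ) = 1 := by
    rw [zpow_two, ← pow_two]; exact orderOf_dvd_iff_pow_eq_one.1 hao.dvd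
  obtain ⟨r', rfl | rfl⟩ := Int.even_or_odd' j
  · have hpow : x ^ (1 - 2 * r') ∈ K := by
      have e : x ^ (1 - 2 * r') = p * a ^ (2 * r') := by
        rw [zpow_sub, zpow_one, mul_inv_eq_iff_eq_mul, mul_assoc, ← hax.mul_zpow]
        exact hpq.symm
      rw [e]; exact mul_mem hp.1 (zpow_mem ha _)
    have hg : Int.gcd (1 - 2 * r') (orderOf x : ℤ) = 1 := by
      rw [hxo, Int.gcd_def, Int.natAbs_natCast]
      refine Nat.Coprime.pow_right r (Nat.coprime_two_right.2 ?_)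
      rw [Int.natAbs_odd]
      exact ⟨-r', by ring⟩
    obtain ⟨u, v, huv⟩ := Int.isCoprime_iff_gcd_eq_one.2 hg
    have : x = (x ^ (1 - 2 * r')) ^ u := by
      calc x = x ^ (u * (1 - 2 * r') + v * (orderOf x : ℤ)) := by rw [huv, zpow_one]
        _ = _ := by
          rw [zpow_add, zpow_mul' x v, zpow_natCast, pow_orderOf_eq_one, one_zpow, mul_one, zpow_mul']
    rw [this]; exact zpow_mem hpow u
  · exfalso
    rw [zpow_add, zpow_mul, hasq, one_zpow, one_mul, zpow_one, ← hm, mul_eq_one_iff_eq_inv] at hφ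
    obtain ⟨m', rfl | rfl⟩ := Int.even_or_odd' m
    · rw [zpow_mul, hbsq, one_zpow] at hφ
      rw [eq_comm, inv_eq_one] at hφ
      rw [hφ, orderOf_one] at hao
      norm_num at hao
    · rw [zpow_add, zpow_mul, hbsq, one_zpow, one_mul, zpow_one] at hφ
      refine hne ?_
      rw [hφ, inv_eq_of_mul_eq_one_right (show φ a * φ a = 1 by
        rw [← pow_two]; exact orderOf_dvd_iff_pow_eq_one.1 hao.dvd)]

/-- The odd part of the radical. -/
theorem exists_odd_part : ∃ S : Subgroup G, S.Normal ∧ S ≤ φ.ker ∧ Odd (Nat.card S) ∧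
    ∀ c ∈ φ.ker, ∃ w ∈ K ⊓ φ.ker, ∃ s ∈ S, c = w * s := by
  haveI := hKn
  haveI : Fact (Nat.Prime 2) := ⟨Nat.prime_two⟩
  set W := (K ⊓ φ.ker).subgroupOf φ.ker with hW
  have hWc : Nat.card W ∣ 2 := by
    rw [hW, Nat.card_congr (subgroupOfEquivOfLe inf_le_right).toEquiv]
    have h1 := (d.cover_structure hKn hK hKmin).1
    have h2 : 0 < Nat.card ↥(K ⊓ φ.ker) := Nat.card_pos
    rcases (show Nat.card ↥(K ⊓ φ.ker) = 1 ∨ Nat.card ↥(K ⊓ φ.ker) = 2 by omega) with e | e <;> rw [e]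
    exact one_dvd 2
  have hWi : ¬ 2 ∣ W.index := fun h2 => by
    obtain ⟨P⟩ : Nonempty (Sylow 2 φ.ker) := inferInstance
    refine P.not_dvd_index (h2.trans (index_dvd_of_le fun c hc => ?_))
    obtain ⟨r, hr⟩ := (IsPGroup.iff_orderOf.1 P.2) ⟨c, hc⟩
    rw [Subgroup.orderOf_mk, ← Subgroup.orderOf_coe] at hr
    exact mem_subgroupOf.2 ⟨d.two_mem hKn hK hKmin c.2 hr, c.2⟩
  have hcop : (Nat.card W).Coprime W.index :=
    Nat.Coprime.coprime_dvd_left hWc ((Nat.Prime.coprime_iff_not_dvd Nat.prime_two).2 hWi)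
  obtain ⟨C, hC⟩ := exists_right_complement'_of_coprime hcop
  have hCodd : Odd (Nat.card C) := by
    rw [← hC.symm.index_eq_card]
    exact Nat.not_even_iff_odd.1 fun he => hWi (even_iff_two_dvd.1 he)
  have hall : ∀ c : φ.ker, Odd (orderOf c) → c ∈ C := by
    intro c hc
    obtain ⟨⟨w, s⟩, hws⟩ := (isComplement'_def.1 hC).surjective c
    have hcm : Commute (w : φ.ker) (s : φ.ker) :=
      Subtype.ext (d.commute_ker hKn hK hKmin (mem_subgroupOf.1 w.2).1 (s : φ.ker).2).eq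
    have h1 : (w : φ.ker) ^ orderOf c = ((s : φ.ker) ^ orderOf c)⁻¹ := by
      rw [← mul_eq_one_iff_eq_inv, ← hcm.mul_pow]
      show ((w : φ.ker) * s) ^ orderOf c = 1
      rw [show (w : φ.ker) * s = c from hws, pow_orderOf_eq_one]
    have h2 : (w : φ.ker) ^ orderOf c = 1 := by
      have hmem : (w : φ.ker) ^ orderOf c ∈ W ⊓ C :=
        ⟨pow_mem w.2 _, h1 ▸ C.inv_mem (C.pow_mem s.2 _)⟩
      rwa [disjoint_iff.1 hC.disjoint, mem_bot] at hmem
    have h3 : (w : φ.ker) = 1 := orderOf_eq_one_iff.1 (Nat.eq_one_of_dvd_coprimes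
      (Nat.coprime_two_left.2 hc) ((Subgroup.orderOf_dvd_natCard _ w.2).trans hWc)
      (orderOf_dvd_of_pow_eq_one h2))
    have h4 : (w : φ.ker) * s = c := hws
    rw [h3, one_mul] at h4
    exact h4 ▸ s.2
  refine ⟨C.map φ.ker.subtype, ⟨?_⟩, map_subtype_le C, ?_, fun c hc => ?_⟩
  · rintro _ ⟨c, hc, rfl⟩ g
    refine ⟨⟨g * c * g⁻¹, (MonoidHom.normal_ker φ).conj_mem c c.2 g⟩, hall _ ?_, rfl⟩
    rw [Subgroup.orderOf_mk, CfsgLib.Invol.orderOf_conj_eq, Subgroup.orderOf_coe]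
    exact hCodd.of_dvd_nat (Subgroup.orderOf_dvd_natCard _ hc)
  · rwa [card_map_of_injective φ.ker.subtype_injective]
  · obtain ⟨⟨w, s⟩, hws⟩ := (isComplement'_def.1 hC).surjective ⟨c, hc⟩
    exact ⟨((w : φ.ker) : G), mem_subgroupOf.1 w.2, ((s : φ.ker) : G), ⟨s.1, s.2, rfl⟩,
      (congrArg Subtype.val hws).symm⟩

/-- Each element of prime power order of an odd normal part generates a normal subgroup of it. -/
theorem conj_mem_zpowers_odd {S : Subgroup G} (hSn : S.Normal) (hS : S ≤ φ.ker) {s u : G}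
    (hs : s ∈ S) (hu : u ∈ S) {p i : ℕ} (hp : p.Prime) (huo : orderOf u = p ^ i) :
    s * u * s⁻¹ ∈ zpowers u := by
  haveI : Fact (Nat.Prime 3) := ⟨Nat.prime_three⟩
  obtain ⟨y, hy, -, -, hyo, hyR, -⟩ := d.exists_inverted_lift hKn hK hKmin (Or.inl rfl : (3 : ℕ) = 3 ∨ _)
  have hyu : Commute y u := d.commute_ker hKn hK hKmin hy (hS hu)
  set H := zpowers y ⊔ zpowers u with hH
  have hn : zpowers u ≤ normalizer (zpowers y : Set G) := zpowers_le.2
    (CfsgLib.Invol.mem_normalizer_iff_of_finite fun z hz => by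
      obtain ⟨j, rfl⟩ := mem_zpowers_iff.1 hz
      rw [← (hyu.zpow_left j).eq, mul_inv_cancel_right]
      exact zpow_mem (mem_zpowers y) j)
  have hd := CfsgLib.Comp.card_sup_dvd_mul hn
  rw [Nat.card_zpowers, Nat.card_zpowers, hyo, huo] at hd
  have h2 : TwoPrimes H := twoPrimes_of_dvd (i := 1) (j := i) Nat.prime_three hp (by rwa [pow_one])
  have hHR : ¬ H ≤ φ.ker := fun hle => hyR (hle (mem_sup_left (mem_zpowers y)))
  have h3 := (mem_normalizer_iff.1 (d.ker_le_normalizer h2 hHR (hS hs)) u).1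
    (mem_sup_right (mem_zpowers u))
  have h4 : s * u * s⁻¹ ∈ ((H : Subgroup G) : Set G) := h3
  rw [hH, coe_mul_of_right_le_normalizer_left _ _ hn] at h4
  obtain ⟨p', hp', q, hq, hpq⟩ := h4
  obtain ⟨j, rfl⟩ := mem_zpowers_iff.1 hp'
  have hqR : φ q = 1 := zpowers_le.2 (hS hu) hq
  have hφ := congrArg φ hpq
  rw [map_mul, map_zpow, hqR, mul_one, MonoidHom.mem_ker.1 (hS (hSn.conj_mem u hu s))] at hφ
  have ho : orderOf (φ y) = 3 := orderOf_eq_prime
    (by rw [← map_pow, orderOf_dvd_iff_pow_eq_one.1 hyo.dvd, map_one]) hyR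
  obtain ⟨r, rfl⟩ : (3 : ℤ) ∣ j := by
    have := orderOf_dvd_iff_zpow_eq_one.2 hφ
    rw [ho] at this
    exact_mod_cast this
  rw [← hpq]
  show y ^ (3 * r) * q ∈ zpowers u
  rw [zpow_mul, show y ^ (3 : ℤ) = 1 from by exact_mod_cast orderOf_dvd_iff_pow_eq_one.1 hyo.dvd,
    one_zpow, one_mul]
  exact hq

theorem odd_part_comm {S : Subgroup G} (hSn : S.Normal) (hS : S ≤ φ.ker) (hodd : Odd (Nat.card S)) :
    IsMulCommutative S := by
  have hnorm : ∀ {s u : S} {p i : ℕ}, p.Prime → orderOf u = p ^ i → s * u * s⁻¹ ∈ zpowers u := by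
    intro s u p i hp huo
    obtain ⟨j, hj⟩ := mem_zpowers_iff.1 (d.conj_mem_zpowers_odd hKn hK hKmin hSn hS s.2 u.2 hp
      (by rw [Subgroup.orderOf_coe, huo]))
    exact mem_zpowers_iff.2 ⟨j, Subtype.ext (by simpa using hj)⟩
  have hsame : ∀ {u v : S} {p : ℕ}, p.Prime → (∃ i, orderOf u = p ^ i) → (∃ i, orderOf v = p ^ i) →
      Commute u v := by
    intro u v p hp hu hv
    haveI := Fact.mk hp
    obtain ⟨P⟩ : Nonempty (Sylow p S) := inferInstance
    haveI hPn : (P : Subgroup S).Normal := ⟨fun x hx g => by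
      obtain ⟨i, hi⟩ := (IsPGroup.iff_orderOf.1 P.2) ⟨x, hx⟩
      rw [Subgroup.orderOf_mk] at hi
      exact zpowers_le.2 hx (hnorm hp hi)⟩
    have hmem : ∀ {z : S}, (∃ i, orderOf z = p ^ i) → z ∈ (P : Subgroup S) := fun {z} ⟨i, hi⟩ => by
      haveI : Subsingleton (Sylow p S) := by
        exact Sylow.unique_of_normal P hPn |>.instSubsingleton
      obtain ⟨Q, hQ⟩ := (IsPGroup.of_card (n := i) (by rw [Nat.card_zpowers, hi]) :
        IsPGroup p (zpowers z)).exists_le_sylow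
      rw [Subsingleton.elim P Q]
      exact hQ (mem_zpowers z)
    refine CfsgLib.Recog.NormCyclic.commute_of_dedekind_odd (fun z : S => z ∈ (P : Subgroup S))
      (fun z hz n => pow_mem hz n) (fun _ _ hx hy => mul_mem hx hy)
      (fun z _ => hodd.of_dvd_nat (orderOf_dvd_natCard z)) (fun s z _ hz => ?_) u v (hmem hu) (hmem hv)
    obtain ⟨i, hi⟩ := (IsPGroup.iff_orderOf.1 P.2) ⟨z, hz⟩
    rw [Subgroup.orderOf_mk] at hi
    exact hnorm hp hi
  have hall : ∀ {u v : S}, (∃ p i, p.Prime ∧ orderOf u = p ^ i) → (∃ p i, p.Prime ∧ orderOf v = p ^ i) →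
      Commute u v := by
    rintro u v ⟨p, i, hp, hu⟩ ⟨q, j, hq, hv⟩
    by_cases hpq : p = q
    · exact hsame hp ⟨i, hu⟩ ⟨j, hpq ▸ hv⟩
    have h1 : u * v * u⁻¹ * v⁻¹ ∈ zpowers v := mul_mem (hnorm hq hv) (inv_mem (mem_zpowers v))
    have h2 : u * v * u⁻¹ * v⁻¹ ∈ zpowers u := by
      rw [show u * v * u⁻¹ * v⁻¹ = u * (v * u * v⁻¹)⁻¹ by group]
      exact mul_mem (mem_zpowers u) (inv_mem (hnorm hp hu))
    have h3 : orderOf (u * v * u⁻¹ * v⁻¹) = 1 := Nat.eq_one_of_dvd_coprimes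
      (((Nat.coprime_primes hp hq).2 hpq).pow i j)
      (hu ▸ orderOf_dvd_of_mem_zpowers h2) (hv ▸ orderOf_dvd_of_mem_zpowers h1)
    rw [orderOf_eq_one_iff, mul_inv_eq_one, mul_inv_eq_iff_eq_mul] at h3
    exact h3
  refine ⟨⟨fun x y => ?_⟩⟩
  have htop : closure {x : S | ∃ p k : ℕ, p.Prime ∧ orderOf x = p ^ k} = ⊤ :=
    closure_prime_power (G := ↥S)
  have hx : x ∈ closure {x : S | ∃ p k : ℕ, p.Prime ∧ orderOf x = p ^ k} := htop.symm ▸ mem_top x
  have hy : y ∈ closure {x : S | ∃ p k : ℕ, p.Prime ∧ orderOf x = p ^ k} := htop.symm ▸ mem_top y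
  induction hx, hy using closure_induction₂ with
  | mem u v hu hv => exact (hall hu hv).eq
  | one_left v _ => exact (Commute.one_left v).eq
  | one_right v _ => exact (Commute.one_right v).eq
  | mul_left a b c _ _ _ h1 h2 => exact (Commute.mul_left h1 h2).eq
  | mul_right a b c _ _ _ h1 h2 => exact (Commute.mul_right h1 h2).eq
  | inv_left a b _ _ h1 => exact (Commute.inv_left h1).eq
  | inv_right a b _ _ h1 => exact (Commute.inv_right h1).eq

theorem prime_dvd_cover {p : ℕ} (hp : p.Prime) (hd : p ∣ Nat.card K) :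
    p = 2 ∨ p = 3 ∨ p = 7 ∨ p = 13 := by
  have h1 := (φ.comp K.subtype).ker.index_mul_card
  rw [index_ker] at h1
  have hd' : p ∣ 1092 * 2 := by
    rw [← h1] at hd
    refine hd.trans (mul_dvd_mul (card_L13 ▸ card_subgroup_dvd_card _) ?_)
    have h2 := (d.cover_structure hKn hK hKmin).1
    have e : Nat.card ↥(φ.comp K.subtype).ker = Nat.card ↥(K ⊓ φ.ker) :=
      Nat.card_congr ⟨fun x => ⟨x.1.1, x.1.2, x.2⟩, fun x => ⟨⟨x.1, x.2.1⟩, x.2.2⟩, fun _ => rfl,
        fun _ => rfl⟩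
    have h3 : 0 < Nat.card ↥(K ⊓ φ.ker) := Nat.card_pos
    rw [e]
    rcases (show Nat.card ↥(K ⊓ φ.ker) = 1 ∨ Nat.card ↥(K ⊓ φ.ker) = 2 by omega) with e | e <;> rw [e]
    exact one_dvd 2
  have hm : p ∈ (1092 * 2 : ℕ).primeFactors := Nat.mem_primeFactors.2 ⟨hp, hd', by norm_num⟩
  rw [show (1092 * 2 : ℕ).primeFactors = {2, 3, 7, 13} by decide +kernel] at hm
  simpa using hm

end Cover

/-- The structure of the group over its radical. -/
theorem structure_of_lift :
    ∃ K S : Subgroup G, K.Normal ∧ S.Normal ∧ K ⊓ S = ⊥ ∧ K ⊔ S = ⊤ ∧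
      (Nonempty (K ≃* L13) ∨ Nonempty (K ≃* S13)) ∧
      IsMulCommutative S ∧ (Nat.card K).Coprime (Nat.card S) := by
  obtain ⟨K, hKn, hK, hKmin⟩ := d.exists_minimal_cover
  obtain ⟨S, hSn, hS, hodd, hdec⟩ := d.exists_odd_part hKn hK hKmin
  have hcop : (Nat.card K).Coprime (Nat.card S) := by
    refine Nat.coprime_of_dvd fun p hp hpK hpS => ?_
    haveI := Fact.mk hp
    have hp2 : p ≠ 2 := fun e => Nat.not_even_iff_odd.2 hodd (even_iff_two_dvd.2 (e ▸ hpS))
    obtain ⟨⟨x, hx⟩, hxo⟩ := exists_prime_orderOf_dvd_card' (G := S) p hpS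
    rw [Subgroup.orderOf_mk] at hxo
    exact d.no_odd_prime hKn hK hKmin ((d.prime_dvd_cover hKn hK hKmin hp hpK).resolve_left hp2)
      (hS hx) hxo
  refine ⟨K, S, hKn, hSn, inf_eq_bot_of_coprime hcop, ?_,
    (d.cover_structure hKn hK hKmin).2, d.odd_part_comm hKn hK hKmin hSn hS hodd, hcop⟩
  rw [eq_top_iff]
  intro g _
  obtain ⟨x, hx, c, hc, rfl⟩ := d.exists_mul hKn hK hKmin g
  obtain ⟨w, hw, s, hs, rfl⟩ := hdec c hc
  rw [← mul_assoc]
  exact mul_mem_sup (mul_mem hx hw.1) hs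

end Lift

/-- The statement S4233 from the almost simple case. -/
theorem structure_of_core (hc : CoreStmt.{u}) (hG : ¬ Group.IsSolvable G) (h : Hyp G) :
    ∃ K S : Subgroup G, K.Normal ∧ S.Normal ∧ K ⊓ S = ⊥ ∧ K ⊔ S = ⊤ ∧
      (Nonempty (K ≃* Matrix.ProjectiveSpecialLinearGroup (Fin 2) (ZMod 13)) ∨
        Nonempty (K ≃* Matrix.SpecialLinearGroup (Fin 2) (ZMod 13))) ∧
      IsMulCommutative S ∧ (Nat.card K).Coprime (Nat.card S) := by
  haveI : (Cfsg.solvableRadical G).Normal := CfsgLib.InvChar.ConjRank.solvableRadical_spec.1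
  obtain ⟨S, c⟩ := exists_core_quotient hG h
  obtain ⟨e⟩ := hc _ S c
  refine Lift.structure_of_lift (φ := e.toMonoidHom.comp (QuotientGroup.mk' _))
    ⟨e.surjective.comp (QuotientGroup.mk'_surjective _), h, fun M hM hs x hx => ?_⟩
  show e (QuotientGroup.mk' _ x) = 1
  rw [show QuotientGroup.mk' (Cfsg.solvableRadical G) x = 1 from
    (QuotientGroup.eq_one_iff x).2 (le_radical_of_isSubnormal hM hs hx), map_one]

end CfsgLib.FGS.MaxNorm
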