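import Cfsg.Agent.Lib.FGS.MaxNormalizer.ThirteenPrime

/-!
S4233, piece B6: an almost simple group with socle `PSL(2,F)` whose small subgroups have maximal
normalizers is `PSL(2,13)`.
-/

set_option autoImplicit false
set_option linter.unusedSectionVars false
set_option linter.style.haveILetI false
set_option maxRecDepth 100000

namespace CfsgLib.FGS.MaxNorm

open Subgroup
open scoped MatrixGroups Pointwise

universe u

variable {A : Type u} [Group A] [Finite A] {S : Subgroup A}

section Field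

variable {F : Type} [Field F] [Fintype F] (C : Coord S F)

include C

/-- Over a prime field every element acts as a matrix. -/
theorem Coord.exists_rep (c : Core A S) (hσ : ∀ σ : F ≃+* F, σ = RingEquiv.refl F) (n : A) :
    ∃ g, C.Acts n g := by
  haveI := c.normal
  let e := (MonoidHom.ofInjective C.inj).trans (MulEquiv.subgroupCongr C.range)
  let β : MulAut (Matrix.ProjectiveSpecialLinearGroup (Fin 2) F) :=
    e.trans ((MulAut.conjNormal n).trans e.symm)
  have hβ : ∀ z, C.ψ (β z) = n * C.ψ z * n⁻¹ := fun z => by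
    show (((e (e.symm (MulAut.conjNormal n (e z)))) : S) : A) = _
    rw [MulEquiv.apply_symm_apply, MulAut.conjNormal_apply]
    rfl
  rcases CfsgLib.KnownC.mulAut_psl_cases le_rfl β with ⟨g, σ, hg⟩ | ⟨h3, -⟩
  · refine ⟨g, fun x => ?_⟩
    show n * C.ψ (QuotientGroup.mk' _ x) * n⁻¹ = C.ψ (QuotientGroup.mk' _ _)
    rw [← hβ, hg, hσ σ, QuotientGroup.mk'_apply, CfsgLib.KnownC.semiAut_mk]
    rfl
  · omega

/-- Matrices of square determinant act as elements of the socle. -/
theorem Coord.square_acts {g : GL (Fin 2) F} {r : F} (hr : r * r = g.1.det) :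
    ∃ m ∈ S, C.Acts m g := by
  have hr0 : r ≠ 0 := fun h => by
    rw [h, mul_zero] at hr
    exact Matrix.GeneralLinearGroup.det_ne_zero g hr.symm
  let s : SL(2, F) := ⟨r⁻¹ • g.1, by
    rw [Matrix.det_smul, Fintype.card_fin, ← hr]; field_simp⟩
  have hgs : g.1 = r • (s : Matrix (Fin 2) (Fin 2) F) := by
    show g.1 = r • (r⁻¹ • g.1)
    rw [smul_smul, mul_inv_cancel₀ hr0, one_smul]
  refine ⟨C.j s, C.j_mem s, fun x => ?_⟩
  rw [C.acts_j s x, CfsgLib.KnownC.slConj_toGL, MulAut.conj_apply]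
  congr 1
  refine (slConj_eq_of_mul_eq ?_).symm
  rw [hgs, Matrix.smul_mul, Matrix.mul_smul]
  congr 1
  rw [← Matrix.SpecialLinearGroup.coe_mul, ← Matrix.SpecialLinearGroup.coe_mul, inv_mul_cancel_right]

theorem Coord.mem_of_square (c : Core A S) {n : A} {g : GL (Fin 2) F} (hn : C.Acts n g) {r : F}
    (hr : r * r = g.1.det) : n ∈ S := by
  obtain ⟨m, hm, hm'⟩ := C.square_acts hr
  rw [Coord.Acts.unique C c hn hm']
  exact hm

/-- Outside the socle every matrix is realised. -/
theorem Coord.exists_acts (c : Core A S) (hσ : ∀ σ : F ≃+* F, σ = RingEquiv.refl F)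
    (hsq : ∀ x y : F, (∃ r, r * r = x) ∨ (∃ r, r * r = y) ∨ ∃ r, r * r * x = y) (hne : S ≠ ⊤)
    (g : GL (Fin 2) F) : ∃ n, C.Acts n g := by
  obtain ⟨n0, hn0⟩ : ∃ n0, n0 ∉ S := by
    by_contra h
    push Not at h
    exact hne (eq_top_iff.2 fun x _ => h x)
  obtain ⟨g0, hg0⟩ := C.exists_rep c hσ n0
  rcases hsq g0.1.det g.1.det with ⟨r, hr⟩ | ⟨r, hr⟩ | ⟨r, hr⟩
  · exact absurd (C.mem_of_square c hg0 hr) hn0
  · obtain ⟨m, -, hm⟩ := C.square_acts hr
    exact ⟨m, hm⟩
  · obtain ⟨m, -, hm⟩ := C.square_acts (g := g0⁻¹ * g) (r := r) (by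
      refine mul_left_cancel₀ (Matrix.GeneralLinearGroup.det_ne_zero g0) ?_
      rw [← Matrix.det_mul, Units.val_mul, Units.mul_inv_cancel_left, mul_comm, hr])
    exact ⟨n0 * m, by simpa using Coord.Acts.mul C hg0 hm⟩

/-- An element of order twelve inverted by an involution is impossible. -/
theorem Coord.no_twelve (c : Core A S) (hout : ∀ g, ∃ n, C.Acts n g) (g w : GL (Fin 2) F) (x : SL(2, F))
    (a b e : F) (h12 : g.1 ^ 12 = Matrix.scalar (Fin 2) a)
    (h6 : ¬ qpm (qmul (quad (g.1 ^ 6)) (quad x.1)) (qmul (quad x.1) (quad (g.1 ^ 6))))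
    (h4 : ¬ qpm (qmul (quad (g.1 ^ 4)) (quad x.1)) (qmul (quad x.1) (quad (g.1 ^ 4))))
    (hw : w.1 * w.1 = Matrix.scalar (Fin 2) b)
    (hwx : ¬ qpm (qmul (quad w.1) (quad x.1)) (qmul (quad x.1) (quad w.1)))
    (hwg : w.1 * g.1 * w.1 * g.1 = Matrix.scalar (Fin 2) e) : False := by
  obtain ⟨y, hy⟩ := hout g
  obtain ⟨s, hs⟩ := hout w
  have hy12 : y ^ 12 = 1 := Coord.Acts.eq_one_of_scalar C c (Coord.Acts.pow C hy 12) a
    (by rw [Units.val_pow_eq_pow_val, h12])
  have hy6 : y ^ 6 ≠ 1 := Coord.Acts.ne_one C (Coord.Acts.pow C hy 6) (x := x)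
    (by rw [Units.val_pow_eq_pow_val]; exact h6)
  have hy4 : y ^ 4 ≠ 1 := Coord.Acts.ne_one C (Coord.Acts.pow C hy 4) (x := x)
    (by rw [Units.val_pow_eq_pow_val]; exact h4)
  have hs2 : s * s = 1 := Coord.Acts.eq_one_of_scalar C c (Coord.Acts.mul C hs hs) b
    (by rw [Units.val_mul, hw])
  have hso : orderOf s = 2 :=
    orderOf_eq_prime (by rw [pow_two, hs2]) (Coord.Acts.ne_one C hs hwx)
  have hsy : s * y * s * y = 1 := Coord.Acts.eq_one_of_scalar C c
    (Coord.Acts.mul C (Coord.Acts.mul C (Coord.Acts.mul C hs hy) hs) hy) e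
    (by rw [Units.val_mul, Units.val_mul, Units.val_mul, hwg])
  have hinv : s * y * s⁻¹ = y⁻¹ := by
    rw [inv_eq_of_mul_eq_one_left hs2]
    exact eq_inv_of_mul_eq_one_left hsy
  have ho : orderOf y = 12 := by
    have hd := orderOf_dvd_of_pow_eq_one hy12
    have h6' : ¬ orderOf y ∣ 6 := fun h => hy6 (orderOf_dvd_iff_pow_eq_one.1 h)
    have h4' : ¬ orderOf y ∣ 4 := fun h => hy4 (orderOf_dvd_iff_pow_eq_one.1 h)
    have := Nat.le_of_dvd (by norm_num) hd
    interval_cases hk : orderOf y <;> omega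
  have h3 := c.dvd_two hso hinv (d := 4) (by rw [ho]; norm_num)
    (by rw [ho]; exact Nat.prime_three.isPrimePow) (by rw [ho])
  norm_num at h3

/-- The centralizer of an involution of the socle is maximal. -/
theorem Coord.cent_eq (c : Core A S) {t : SL(2, F)} (ht : C.j t ≠ 1) (ht2 : C.j t ^ 2 = 1)
    {K : Subgroup A} (hK : K ≠ ⊤) (hle : centralizer ({C.j t} : Set A) ≤ K) :
    centralizer ({C.j t} : Set A) = K := by
  have hto : orderOf (C.j t) = 2 := orderOf_eq_prime ht2 ht
  obtain ⟨h1, h2⟩ := Core.zpowers_two_primes c Nat.prime_two.isPrimePow hto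
  rw [← normalizer_zpowers_invol hto] at hle ⊢
  exact c.eq_of_le h1 h2 hle hK

end Field

local instance fact5 : Fact (Nat.Prime 5) := ⟨by norm_num⟩
local instance fact7 : Fact (Nat.Prime 7) := ⟨by norm_num⟩
local instance fact11 : Fact (Nat.Prime 11) := ⟨by norm_num⟩
local instance fact13' : Fact (Nat.Prime 13) := ⟨by norm_num⟩

/-- An automorphism of a prime field is trivial. -/
theorem ringEquiv_zmod_eq (p : ℕ) (σ : ZMod p ≃+* ZMod p) : σ = RingEquiv.refl _ :=
  RingEquiv.ext fun x => RingHom.congr_fun (RingHom.ext_zmod (σ : ZMod p →+* ZMod p) (RingHom.id _)) x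

/-- Five. -/
theorem no_five (c : Core A S) (C : Coord S (ZMod 5)) : False := by
  let t : SL(2, ZMod 5) := ⟨!![2, 0; 0, 3], by decide +kernel⟩
  let k : SL(2, ZMod 5) := ⟨!![1, 1; 2, 3], by decide +kernel⟩
  let ki : SL(2, ZMod 5) := ⟨!![3, 4; 3, 1], by decide +kernel⟩
  have hki : k⁻¹ = ki := inv_eq_of_mul_eq_one_right (Subtype.ext (by
    rw [Matrix.SpecialLinearGroup.coe_mul, Matrix.SpecialLinearGroup.coe_one]; decide +kernel))
  have ht2 : C.j t ^ 2 = 1 := C.j_pow_eq_one (by
    rw [pow_two, Matrix.SpecialLinearGroup.coe_mul, quad_mul]; decide +kernel)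
  have hkt : ¬ C.j k * C.j t = C.j t * C.j k := fun h => absurd (C.j_comm_iff.1 h) (by decide +kernel)
  have ht : C.j t ≠ 1 := fun h => hkt (by rw [h, one_mul, mul_one])
  set W := centralizer ({C.j t} : Set A) ⊓ S with hW
  have htW : C.j t ∈ W := ⟨mem_centralizer_singleton_iff.2 rfl, C.j_mem t⟩
  have hWn : ¬ S ≤ normalizer (W : Set A) :=
    Coord.not_le_normalizer c (fun h => ht (mem_bot.1 (h ▸ htW))) inf_le_right (C.j_mem k)
      fun h => hkt (mem_centralizer_singleton_iff.1 h.1)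
  have hle : centralizer ({C.j t} : Set A) ≤ normalizer (W : Set A) := fun n hn =>
    CfsgLib.Invol.mem_normalizer_iff_of_finite fun x hx =>
      mem_inf.2 ⟨mul_mem (mul_mem hn (mem_inf.1 hx).1) (inv_mem hn), c.normal.conj_mem x (mem_inf.1 hx).2 n⟩
  have heq := C.cent_eq c ht ht2 (fun h => hWn (by rw [h]; exact le_top)) hle
  have hk : C.j k ∈ normalizer (W : Set A) := CfsgLib.Invol.mem_normalizer_iff_of_finite fun x hx => by
    obtain ⟨g, rfl⟩ := C.exists_j hx.2
    refine ⟨?_, c.normal.conj_mem _ (C.j_mem g) _⟩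
    rw [← map_inv, hki, ← map_mul, ← map_mul]
    refine mem_centralizer_singleton_iff.2 (C.j_comm_iff.2 ?_)
    have hg := C.j_comm_iff.1 (mem_centralizer_singleton_iff.1 hx.1)
    have hd : qdet (quad g.1) = 1 := (qdet_quad _).trans g.2
    rw [Matrix.SpecialLinearGroup.coe_mul, Matrix.SpecialLinearGroup.coe_mul, quad_mul, quad_mul]
    exact five_cent _ _ _ _ hd hg
  rw [← heq] at hk
  exact hkt (mem_centralizer_singleton_iff.1 hk)

/-- Seven. -/
theorem no_seven (c : Core A S) (C : Coord S (ZMod 7)) : False := by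
  let t : SL(2, ZMod 7) := ⟨!![0, 1; 6, 0], by decide +kernel⟩
  let w : SL(2, ZMod 7) := ⟨!![2, 3; 3, 5], by decide +kernel⟩
  let k : SL(2, ZMod 7) := ⟨!![0, 2; 3, 1], by decide +kernel⟩
  have ht2 : C.j t ^ 2 = 1 := C.j_pow_eq_one (by
    rw [pow_two, Matrix.SpecialLinearGroup.coe_mul, quad_mul]; decide +kernel)
  have hw2 : C.j w ^ 2 = 1 := C.j_pow_eq_one (by
    rw [pow_two, Matrix.SpecialLinearGroup.coe_mul, quad_mul]; decide +kernel)
  have hkt : ¬ C.j k * C.j t = C.j t * C.j k := fun h => absurd (C.j_comm_iff.1 h) (by decide +kernel)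
  have ht : C.j t ≠ 1 := fun h => hkt (by rw [h, one_mul, mul_one])
  have htw : Commute (C.j t) (C.j w) := C.j_comm_iff.2 (by decide +kernel)
  set V := zpowers (C.j t) ⊔ zpowers (C.j w) with hV
  have htV : C.j t ∈ V := mem_sup_left (mem_zpowers _)
  have hwV : C.j w ∈ V := mem_sup_right (mem_zpowers _)
  have hnorm : zpowers (C.j w) ≤ normalizer (zpowers (C.j t) : Set A) := zpowers_le.2
    (CfsgLib.Invol.mem_normalizer_iff_of_finite fun z hz => by
      obtain ⟨i, rfl⟩ := mem_zpowers_iff.1 hz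
      rw [← conj_zpow, ← htw.eq, mul_inv_cancel_right]
      exact zpow_mem (mem_zpowers _) i)
  have helts : ∀ x ∈ V, x = 1 ∨ x = C.j t ∨ x = C.j w ∨ x = C.j (t * w) := by
    intro x hx
    have hx' : x ∈ ((zpowers (C.j t) : Subgroup A) : Set A) * (zpowers (C.j w) : Set A) := by
      rw [← coe_mul_of_right_le_normalizer_left _ _ hnorm]; exact hx
    obtain ⟨u, hu, v, hv, rfl⟩ := hx'
    obtain ⟨i, rfl⟩ := mem_zpowers_iff.1 hu
    obtain ⟨m, rfl⟩ := mem_zpowers_iff.1 hv
    have ez : ∀ {z : A}, z ^ 2 = 1 → ∀ i : ℤ, z ^ i = 1 ∨ z ^ i = z := fun {z} hz i => by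
      have hz' : z ^ (2 : ℤ) = 1 := by rw [zpow_two, ← pow_two, hz]
      rcases Int.even_or_odd' i with ⟨l, rfl | rfl⟩
      · left; rw [zpow_mul, hz', one_zpow]
      · right; rw [zpow_add, zpow_mul, hz', one_zpow, one_mul, zpow_one]
    show C.j t ^ i * C.j w ^ m = 1 ∨ _
    rcases ez ht2 i with e1 | e1 <;> rcases ez hw2 m with e2 | e2 <;> rw [e1, e2] <;> simp
  have hVS : V ≤ S := sup_le (zpowers_le.2 (C.j_mem t)) (zpowers_le.2 (C.j_mem w))
  have hVbot : V ≠ ⊥ := fun h => ht (mem_bot.1 (h ▸ htV))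
  have hkV : C.j k ∉ V := fun h => hkt (by
    rcases helts _ h with e | e | e | e
    · rw [e, one_mul, mul_one]
    · rw [e]
    · rw [e, htw.eq]
    · rw [e, map_mul, mul_assoc, ← htw.eq])
  have hVn : ¬ S ≤ normalizer (V : Set A) := Coord.not_le_normalizer c hVbot hVS (C.j_mem k) hkV
  have hmem : ∀ n : A, n * C.j t * n⁻¹ ∈ V → n * C.j w * n⁻¹ ∈ V → n ∈ normalizer (V : Set A) :=
    fun n h1 h2 => CfsgLib.Invol.mem_normalizer_iff_of_finite fun x hx => by
      have hle : V ≤ V.comap (MulAut.conj n).toMonoidHom :=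
        sup_le (zpowers_le.2 h1) (zpowers_le.2 h2)
      exact hle hx
  by_cases hS : S = ⊤
  · have hle : centralizer ({C.j t} : Set A) ≤ normalizer (V : Set A) := fun n hn => by
      obtain ⟨g, rfl⟩ := C.exists_j (hS ▸ mem_top n : n ∈ S)
      have hg := mem_centralizer_singleton_iff.1 hn
      refine hmem _ (by rw [hg, mul_inv_cancel_right]; exact htV) ?_
      rcases seven_cent _ _ _ _ ((qdet_quad _).trans g.2) (C.j_comm_iff.1 hg) with e | e
      · rw [(C.j_comm_iff (g := g) (x := w)).2 e, mul_inv_cancel_right]; exact hwV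
      · rw [show C.j g * C.j w * (C.j g)⁻¹ = C.j (t * w) from C.j_conj_iff.2 (by
          rw [Matrix.SpecialLinearGroup.coe_mul, quad_mul]; exact e), map_mul]
        exact mul_mem htV hwV
    have heq := C.cent_eq c ht ht2 (fun h => hVn (by rw [h]; exact le_top)) hle
    have hk : C.j k ∈ normalizer (V : Set A) := hmem _
      (by rw [show C.j k * C.j t * (C.j k)⁻¹ = C.j w from C.j_conj_iff.2 (by decide +kernel)]
          exact hwV)
      (by rw [show C.j k * C.j w * (C.j k)⁻¹ = C.j (t * w) from C.j_conj_iff.2 (by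
            rw [Matrix.SpecialLinearGroup.coe_mul, quad_mul]; decide +kernel), map_mul]
          exact mul_mem htV hwV)
    rw [← heq] at hk
    exact hkt (mem_centralizer_singleton_iff.1 hk)
  · have hVp : IsPGroup 2 V := fun x => ⟨1, Subtype.ext (by
      show (x : A) ^ 2 = 1
      rcases helts _ x.2 with e | e | e | e <;> rw [e]
      · exact one_pow 2
      · exact ht2
      · exact hw2
      · rw [map_mul, htw.mul_pow, ht2, hw2, one_mul])⟩
    haveI := Fact.mk Nat.prime_two
    obtain ⟨i, hi⟩ := IsPGroup.iff_card.1 hVp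
    have hV2 : TwoPrimes V :=
      twoPrimes_of_dvd (i := i) (j := 0) Nat.prime_two Nat.prime_two (by simp [hi])
    have hle : normalizer (V : Set A) ≤ S := fun n hn => by
      obtain ⟨g, hg⟩ := C.exists_rep c (ringEquiv_zmod_eq 7) n
      have key : ∀ u : SL(2, ZMod 7), C.j u ∈ V → C.j u ≠ 1 →
          qpm (qmul (quad g.1) (quad u.1)) (qmul (quad t.1) (quad g.1)) ∨
          qpm (qmul (quad g.1) (quad u.1)) (qmul (quad w.1) (quad g.1)) ∨
          qpm (qmul (quad g.1) (quad u.1)) (qmul (qmul (quad t.1) (quad w.1)) (quad g.1)) := by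
        intro u hu hu1
        set y := CfsgLib.KnownC.slConj g u with hy
        have h2 : g.1 * (u : Matrix (Fin 2) (Fin 2) (ZMod 7)) = y.1 * g.1 := by
          rw [hy, CfsgLib.KnownC.slConj_coe, Units.inv_mul_cancel_right]
        have conv : ∀ z : SL(2, ZMod 7), C.j y = C.j z →
            qpm (qmul (quad g.1) (quad u.1)) (qmul (quad z.1) (quad g.1)) := fun z hz => by
          rw [← quad_mul, ← quad_mul, qpm_quad, h2]
          rcases C.j_eq_iff.1 hz with e | e
          · left; rw [e]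
          · right; rw [e, neg_mul]
        rcases helts _ ((mem_normalizer_iff.1 hn _).1 hu) with e | e | e | e
        · exact absurd (conj_eq_one_iff.1 e) hu1
        · exact Or.inl (conv t ((hg u).symm.trans e))
        · exact Or.inr (Or.inl (conv w ((hg u).symm.trans e)))
        · refine Or.inr (Or.inr ?_)
          rw [← quad_mul t.1 w.1]
          exact conv (t * w) ((hg u).symm.trans e)
      have hw1 : C.j w ≠ 1 := fun h => absurd (C.quad_of_j_eq (h.trans (map_one C.j).symm)) (by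
        rw [Matrix.SpecialLinearGroup.coe_one]; decide +kernel)
      obtain ⟨r, hr⟩ := seven_square _ _ _ _
        (show qdet (quad g.1) ≠ 0 by rw [qdet_quad]; exact Matrix.GeneralLinearGroup.det_ne_zero g)
        (key t htV ht) (key w hwV hw1)
      exact C.mem_of_square c hg (hr.trans (qdet_quad g.1))
    exact hVn (c.eq_of_le hVbot hV2 hle hS).ge

/-- Eleven. -/
theorem no_eleven (c : Core A S) (C : Coord S (ZMod 11)) : False := by
  by_cases hS : S = ⊤
  swap
  · exact C.no_twelve c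
      (C.exists_acts c (ringEquiv_zmod_eq 11) (by decide +kernel) hS)
      (Matrix.GeneralLinearGroup.mkOfDetNeZero !![1, 2; 1, 1] (by decide +kernel))
      (Matrix.GeneralLinearGroup.mkOfDetNeZero !![1, 0; 0, 10] (by decide +kernel)) (upp 1)
      ((!![1, 2; 1, 1] : Matrix (Fin 2) (Fin 2) (ZMod 11)) ^ 12 |> fun M => M 0 0) 1
      ((!![1, 0; 0, 10] * !![1, 2; 1, 1] * !![1, 0; 0, 10] * !![1, 2; 1, 1] :
        Matrix (Fin 2) (Fin 2) (ZMod 11)) 0 0)
      (by decide +kernel) (by decide +kernel) (by decide +kernel) (by decide +kernel) (by decide +kernel)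
      (by decide +kernel)
  let a : SL(2, ZMod 11) := ⟨!![0, 1; 10, 0], by decide +kernel⟩
  let b : SL(2, ZMod 11) := ⟨!![0, 2; 5, 1], by decide +kernel⟩
  let y : SL(2, ZMod 11) := ⟨!![5, 1; 0, 9], by decide +kernel⟩
  let z : SL(2, ZMod 11) := ⟨!![0, 1; 10, 1], by decide +kernel⟩
  let M : Submonoid SL(2, ZMod 11) :=
    { carrier := {g | ∀ x ∈ ico11, qmul (quad g.1) x ∈ ico11}
      one_mem' := fun x hx => by
        rw [Matrix.SpecialLinearGroup.coe_one, quad_one, qmul_one_left]; exact hx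
      mul_mem' := fun {g h} hg hh x hx => by
        rw [Matrix.SpecialLinearGroup.coe_mul, quad_mul, qmul_assoc]; exact hg _ (hh x hx) }
  let L : Subgroup SL(2, ZMod 11) :=
    { M with
      inv_mem' := fun {g} hg => by
        show g⁻¹ ∈ M
        have h1 : g⁻¹ = g ^ (orderOf g - 1) := inv_eq_of_mul_eq_one_right (by
          rw [← pow_succ', Nat.sub_add_cancel (orderOf_pos g), pow_orderOf_eq_one])
        rw [h1]
        exact pow_mem (show g ∈ M from hg) _ }
  set K := L.map C.j with hK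
  have hbL : b ∈ L := fun x hx => (ico11_closed x hx).2.2.1
  have hKtop : K ≠ ⊤ := fun h => by
    obtain ⟨g, hg, he⟩ := (h ▸ mem_top (C.j z) : C.j z ∈ K)
    have hq := hg _ ico11_one
    rw [qmul_one_right] at hq
    rcases C.quad_of_j_eq he with e | e <;> rw [e] at hq
    · exact ico11_proper.1 hq
    · exact ico11_proper.2 hq
  have hy5 : C.j y ^ 5 = 1 := C.j_pow_eq_one (by
    rw [Matrix.SpecialLinearGroup.coe_pow]; decide +kernel)
  have hby : ∀ i : Fin 5, ¬ C.j b * C.j y * (C.j b)⁻¹ = C.j (y ^ (i : ℕ)) := fun i h => by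
    have h' := C.j_conj_iff.1 h
    rw [Matrix.SpecialLinearGroup.coe_pow] at h'
    revert h'
    fin_cases i <;> decide +kernel
  have hy1 : C.j y ≠ 1 := fun h => hby 0 (by rw [h, mul_one, mul_inv_cancel, Fin.val_zero, pow_zero, map_one])
  have hyo : orderOf (C.j y) = 5 := orderOf_eq_prime hy5 hy1
  obtain ⟨h1, h2⟩ := Core.zpowers_two_primes c (by norm_num : Nat.Prime 5).isPrimePow hyo
  have hpow : ∀ n ∈ normalizer (zpowers (C.j y) : Set A),
      ∃ i : Fin 5, n * C.j y * n⁻¹ = C.j (y ^ (i : ℕ)) := fun n hn => by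
    obtain ⟨i, hi⟩ := mem_zpowers_iff.1 ((mem_normalizer_iff.1 hn _).1 (mem_zpowers _))
    refine ⟨⟨(i % 5).toNat, by omega⟩, ?_⟩
    rw [← hi, map_pow, ← zpow_natCast]
    rw [← zpow_mod_orderOf, hyo]
    congr 1
    simp only [Nat.cast_ofNat]
    omega
  have hle : normalizer (zpowers (C.j y) : Set A) ≤ K := fun n hn => by
    obtain ⟨g, rfl⟩ := C.exists_j (hS ▸ mem_top n : n ∈ S)
    obtain ⟨i, hi⟩ := hpow _ hn
    have h' := C.j_conj_iff.1 hi
    rw [Matrix.SpecialLinearGroup.coe_pow] at h'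
    refine ⟨g, ?_, rfl⟩
    show ∀ x ∈ ico11, qmul (quad g.1) x ∈ ico11
    · refine eleven_normalizer _ _ _ _ ((qdet_quad _).trans g.2) ?_
      fin_cases i
      · exfalso
        apply hy1
        have h0 := hi
        rw [pow_zero, map_one, conj_eq_one_iff] at h0
        exact h0
      · left; simp [pow_succ, quad_mul] at h'; exact h'
      · right; left; simp [pow_succ, quad_mul] at h'; exact h'
      · right; right; left; simp [pow_succ, quad_mul] at h'; exact h'
      · right; right; right; simp [pow_succ, quad_mul] at h'; exact h'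
  have heq := c.eq_of_le h1 h2 hle hKtop
  have hb : C.j b ∈ normalizer (zpowers (C.j y) : Set A) := by
    rw [heq]; exact mem_map_of_mem _ hbL
  obtain ⟨i, hi⟩ := hpow _ hb
  exact hby i hi

/-- Thirteen. -/
theorem top_thirteen (c : Core A S) (C : Coord S (ZMod 13)) : S = ⊤ := by
  by_contra hS
  exact C.no_twelve c
    (C.exists_acts c (ringEquiv_zmod_eq 13) (by decide +kernel) hS)
    (Matrix.GeneralLinearGroup.mkOfDetNeZero !![2, 0; 0, 1] (by decide +kernel))
    (Matrix.GeneralLinearGroup.mkOfDetNeZero !![0, 1; 1, 0] (by decide +kernel)) (upp 1)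
    1 1 2
    (by decide +kernel) (by decide +kernel) (by decide +kernel) (by decide +kernel) (by decide +kernel)
    (by decide +kernel)

/-- Piece B6. -/
theorem thirteen : ThirteenStmt.{u} := by
  intro A _ _ S c F _ _ h4 ⟨e⟩
  have hcases := (coordOfEquiv e).card_cases c h4
  have key : ∀ p : ℕ, p.Prime → Fintype.card F = p →
      Nonempty (S ≃* Matrix.ProjectiveSpecialLinearGroup (Fin 2) (ZMod p)) := fun p hp hF => by
    haveI := Fact.mk hp
    exact ⟨e.trans (CfsgLib.Geom.Moebius.pslCongr (ZMod.ringEquivOfPrime F hp hF).symm)⟩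
  rcases hcases with h | h | h | h
  · obtain ⟨e'⟩ := key 5 (by norm_num) h
    exact (no_five c (coordOfEquiv e')).elim
  · obtain ⟨e'⟩ := key 7 (by norm_num) h
    exact (no_seven c (coordOfEquiv e')).elim
  · obtain ⟨e'⟩ := key 11 (by norm_num) h
    exact (no_eleven c (coordOfEquiv e')).elim
  · obtain ⟨e'⟩ := key 13 (by norm_num) h
    have hS := top_thirteen c (coordOfEquiv e')
    exact ⟨hS, ⟨(Subgroup.topEquiv.symm.trans (MulEquiv.subgroupCongr hS.symm)).trans e'⟩⟩

end CfsgLib.FGS.MaxNorm
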