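import Mathlib

/-!
S4233: finite computations in two by two matrices over the small prime fields.
-/

set_option autoImplicit false
set_option maxRecDepth 100000

namespace CfsgLib.FGS.MaxNorm

/-- Two by two matrices as quadruples. -/
abbrev Quad (R : Type*) := R × R × R × R

variable {R : Type*} [CommRing R]

/-- The entries of a matrix. -/
def quad (M : Matrix (Fin 2) (Fin 2) R) : Quad R := (M 0 0, M 0 1, M 1 0, M 1 1)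

/-- The product. -/
def qmul (x y : Quad R) : Quad R :=
  (x.1 * y.1 + x.2.1 * y.2.2.1, x.1 * y.2.1 + x.2.1 * y.2.2.2,
    x.2.2.1 * y.1 + x.2.2.2 * y.2.2.1, x.2.2.1 * y.2.1 + x.2.2.2 * y.2.2.2)

/-- The negative. -/
def qneg (x : Quad R) : Quad R := (-x.1, -x.2.1, -x.2.2.1, -x.2.2.2)

/-- The determinant. -/
def qdet (x : Quad R) : R := x.1 * x.2.2.2 - x.2.1 * x.2.2.1

/-- Equal up to sign. -/
def qpm (x y : Quad R) : Prop := x = y ∨ x = qneg y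

instance [DecidableEq R] (x y : Quad R) : Decidable (qpm x y) :=
  inferInstanceAs (Decidable (_ ∨ _))

theorem quad_mul (M N : Matrix (Fin 2) (Fin 2) R) : quad (M * N) = qmul (quad M) (quad N) := by
  simp [quad, qmul, Matrix.mul_apply, Fin.sum_univ_two]

theorem qmul_assoc (x y z : Quad R) : qmul (qmul x y) z = qmul x (qmul y z) := by
  simp only [qmul, Prod.mk.injEq]
  exact ⟨by ring, by ring, by ring, by ring⟩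

theorem quad_one : quad (1 : Matrix (Fin 2) (Fin 2) R) = (1, 0, 0, 1) := by simp [quad]

theorem qmul_one_right (x : Quad R) : qmul x (1, 0, 0, 1) = x := by simp [qmul]

theorem qmul_one_left (x : Quad R) : qmul (1, 0, 0, 1) x = x := by simp [qmul]

theorem quad_neg (M : Matrix (Fin 2) (Fin 2) R) : quad (-M) = qneg (quad M) := rfl

theorem quad_inj {M N : Matrix (Fin 2) (Fin 2) R} : quad M = quad N ↔ M = N := by
  refine ⟨fun h => ?_, congrArg quad⟩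
  simp only [quad, Prod.mk.injEq] at h
  ext i j
  fin_cases i <;> fin_cases j
  exacts [h.1, h.2.1, h.2.2.1, h.2.2.2]

theorem qdet_quad (M : Matrix (Fin 2) (Fin 2) R) : qdet (quad M) = M.det := (Matrix.det_fin_two M).symm

theorem qpm_quad {M N : Matrix (Fin 2) (Fin 2) R} : qpm (quad M) (quad N) ↔ M = N ∨ M = -N := by
  rw [qpm, ← quad_neg, quad_inj, quad_inj]

/-- A copy of the icosahedral group in `SL(2,11)`. -/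
def ico11 : List (Quad (ZMod 11)) := [
  (0, 1, 10, 0), (0, 2, 5, 1), (0, 3, 7, 3), (0, 4, 8, 8), (0, 5, 2, 1), (0, 6, 9, 10),
  (0, 7, 3, 3), (0, 8, 4, 8), (0, 9, 6, 10), (0, 10, 1, 0), (1, 0, 0, 1), (1, 1, 2, 3),
  (1, 2, 1, 3), (1, 3, 10, 9), (1, 4, 5, 10), (1, 5, 4, 10), (1, 6, 9, 0), (1, 7, 7, 6),
  (1, 8, 8, 10), (1, 9, 6, 0), (1, 10, 3, 9), (2, 0, 1, 6), (2, 1, 0, 6), (2, 2, 2, 8),
  (2, 3, 10, 10), (2, 4, 7, 9), (2, 5, 5, 2), (2, 6, 6, 2), (2, 7, 4, 9), (2, 8, 9, 9),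
  (2, 9, 8, 9), (2, 10, 3, 10), (3, 0, 3, 4), (3, 1, 1, 8), (3, 2, 2, 9), (3, 3, 0, 4),
  (3, 4, 8, 0), (3, 5, 5, 5), (3, 6, 7, 7), (3, 7, 6, 7), (3, 8, 4, 0), (3, 9, 10, 1),
  (3, 10, 9, 1), (4, 0, 8, 3), (4, 1, 5, 7), (4, 2, 2, 4), (4, 3, 4, 6), (4, 4, 3, 6),
  (4, 5, 1, 7), (4, 6, 7, 8), (4, 7, 6, 8), (4, 8, 0, 3), (4, 9, 9, 4), (4, 10, 10, 6),
  (5, 0, 1, 9), (5, 1, 0, 9), (5, 2, 9, 6), (5, 3, 4, 7), (5, 4, 3, 7), (5, 5, 8, 6),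
  (5, 6, 6, 3), (5, 7, 7, 10), (5, 8, 5, 6), (5, 9, 2, 6), (5, 10, 10, 7), (6, 0, 10, 2),
  (6, 1, 1, 4), (6, 2, 9, 5), (6, 3, 6, 5), (6, 4, 4, 1), (6, 5, 5, 8), (6, 6, 3, 5),
  (6, 7, 8, 4), (6, 8, 7, 4), (6, 9, 2, 5), (6, 10, 0, 2), (7, 0, 3, 8), (7, 1, 1, 5),
  (7, 2, 2, 7), (7, 3, 0, 8), (7, 4, 5, 3), (7, 5, 4, 3), (7, 6, 10, 4), (7, 7, 8, 5),
  (7, 8, 7, 5), (7, 9, 9, 7), (7, 10, 6, 4), (8, 0, 8, 7), (8, 1, 2, 10), (8, 2, 1, 10),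
  (8, 3, 7, 0), (8, 4, 5, 4), (8, 5, 4, 4), (8, 6, 6, 6), (8, 7, 3, 0), (8, 8, 0, 7),
  (8, 9, 9, 2), (8, 10, 10, 3), (9, 0, 10, 5), (9, 1, 8, 1), (9, 2, 3, 2), (9, 3, 2, 2),
  (9, 4, 7, 2), (9, 5, 5, 9), (9, 6, 6, 9), (9, 7, 4, 2), (9, 8, 1, 1), (9, 9, 9, 3),
  (9, 10, 0, 5), (10, 0, 0, 10), (10, 1, 8, 2), (10, 2, 5, 0), (10, 3, 3, 1), (10, 4, 4, 5),
  (10, 5, 2, 0), (10, 6, 7, 1), (10, 7, 6, 1), (10, 8, 1, 2), (10, 9, 10, 8), (10, 10, 9, 8)]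

theorem five_cent : ∀ a b c d : ZMod 5, qdet (a, b, c, d) = 1 →
    qpm (qmul (a, b, c, d) (2, 0, 0, 3)) (qmul (2, 0, 0, 3) (a, b, c, d)) →
    qpm (qmul (qmul (qmul (1, 1, 2, 3) (a, b, c, d)) (3, 4, 3, 1)) (2, 0, 0, 3))
      (qmul (2, 0, 0, 3) (qmul (qmul (1, 1, 2, 3) (a, b, c, d)) (3, 4, 3, 1))) := by
  decide +kernel

theorem seven_cent : ∀ a b c d : ZMod 7, qdet (a, b, c, d) = 1 →
    qpm (qmul (a, b, c, d) (0, 1, 6, 0)) (qmul (0, 1, 6, 0) (a, b, c, d)) →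
    qpm (qmul (a, b, c, d) (2, 3, 3, 5)) (qmul (2, 3, 3, 5) (a, b, c, d)) ∨
      qpm (qmul (a, b, c, d) (2, 3, 3, 5))
        (qmul (qmul (0, 1, 6, 0) (2, 3, 3, 5)) (a, b, c, d)) := by
  decide +kernel

theorem seven_square : ∀ a b c d : ZMod 7, qdet (a, b, c, d) ≠ 0 →
    (qpm (qmul (a, b, c, d) (0, 1, 6, 0)) (qmul (0, 1, 6, 0) (a, b, c, d)) ∨
      qpm (qmul (a, b, c, d) (0, 1, 6, 0)) (qmul (2, 3, 3, 5) (a, b, c, d)) ∨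
      qpm (qmul (a, b, c, d) (0, 1, 6, 0)) (qmul (qmul (0, 1, 6, 0) (2, 3, 3, 5)) (a, b, c, d))) →
    (qpm (qmul (a, b, c, d) (2, 3, 3, 5)) (qmul (0, 1, 6, 0) (a, b, c, d)) ∨
      qpm (qmul (a, b, c, d) (2, 3, 3, 5)) (qmul (2, 3, 3, 5) (a, b, c, d)) ∨
      qpm (qmul (a, b, c, d) (2, 3, 3, 5)) (qmul (qmul (0, 1, 6, 0) (2, 3, 3, 5)) (a, b, c, d))) →
    ∃ r : ZMod 7, r * r = qdet (a, b, c, d) := by
  decide +kernel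

theorem eleven_normalizer : ∀ a b c d : ZMod 11, qdet (a, b, c, d) = 1 →
    (qpm (qmul (a, b, c, d) (5, 1, 0, 9)) (qmul (5, 1, 0, 9) (a, b, c, d)) ∨
      qpm (qmul (a, b, c, d) (5, 1, 0, 9)) (qmul (qmul (5, 1, 0, 9) (5, 1, 0, 9)) (a, b, c, d)) ∨
      qpm (qmul (a, b, c, d) (5, 1, 0, 9))
        (qmul (qmul (qmul (5, 1, 0, 9) (5, 1, 0, 9)) (5, 1, 0, 9)) (a, b, c, d)) ∨
      qpm (qmul (a, b, c, d) (5, 1, 0, 9))
        (qmul (qmul (qmul (qmul (5, 1, 0, 9) (5, 1, 0, 9)) (5, 1, 0, 9)) (5, 1, 0, 9)) (a, b, c, d))) →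
    ∀ x ∈ ico11, qmul (a, b, c, d) x ∈ ico11 := by
  decide +kernel

theorem ico11_one : (1, 0, 0, 1) ∈ ico11 := by decide +kernel

theorem ico11_closed : ∀ x ∈ ico11,
    qmul (0, 1, 10, 0) x ∈ ico11 ∧ qmul (0, 10, 1, 0) x ∈ ico11 ∧
      qmul (0, 2, 5, 1) x ∈ ico11 ∧ qmul (1, 9, 6, 0) x ∈ ico11 := by
  decide +kernel

theorem ico11_proper : (0, 1, 10, 1) ∉ ico11 ∧ qneg ((0, 1, 10, 1) : Quad (ZMod 11)) ∉ ico11 := by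
  decide +kernel

end CfsgLib.FGS.MaxNorm
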