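import Cfsg.Agent.Lib.FGS.MaxNormalizer.Basic
import Cfsg.Agent.Lib.FGS.MaxNormalizer.ThirteenModel
import Cfsg.Agent.Lib.Classical.PSLTwoDihedral
import Cfsg.Agent.Lib.KnownC.AutPSLMain
import Cfsg.Agent.Lib.Geom.DicksonPSL

/-!
S4233, piece B6: coordinates on the socle `PSL(2,F)`.
-/

set_option autoImplicit false
set_option linter.unusedSectionVars false
set_option linter.style.haveILetI false

namespace CfsgLib.FGS.MaxNorm

open Subgroup
open scoped MatrixGroups

universe u

variable {A : Type u} [Group A] [Finite A] {S : Subgroup A} {F : Type} [Field F] [Fintype F]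

/-- The socle as an image of `PSL(2,F)`. -/
structure Coord (S : Subgroup A) (F : Type) [Field F] where
  ψ : Matrix.ProjectiveSpecialLinearGroup (Fin 2) F →* A
  inj : Function.Injective ψ
  range : ψ.range = S

/-- Coordinates from an isomorphism. -/
def coordOfEquiv (e : S ≃* Matrix.ProjectiveSpecialLinearGroup (Fin 2) F) : Coord S F where
  ψ := S.subtype.comp e.symm.toMonoidHom
  inj := S.subtype_injective.comp e.symm.injective
  range := by
    rw [MonoidHom.range_comp, MonoidHom.range_eq_top_of_surjective _ e.symm.surjective,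
      ← MonoidHom.range_eq_map, Subgroup.range_subtype]

/-- The element of the socle given by a matrix. -/
def Coord.j (C : Coord S F) : SL(2, F) →* A := C.ψ.comp (QuotientGroup.mk' (center SL(2, F)))

variable (C : Coord S F)

theorem Coord.j_mem (x : SL(2, F)) : C.j x ∈ S := C.range.le ⟨_, rfl⟩

theorem Coord.exists_j {a : A} (ha : a ∈ S) : ∃ x, C.j x = a := by
  rw [← C.range] at ha
  obtain ⟨z, rfl⟩ := ha
  obtain ⟨x, rfl⟩ := QuotientGroup.mk'_surjective (center SL(2, F)) z
  exact ⟨x, rfl⟩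

theorem Coord.j_eq_iff {x y : SL(2, F)} : C.j x = C.j y ↔
    (x : Matrix (Fin 2) (Fin 2) F) = y ∨ (x : Matrix (Fin 2) (Fin 2) F) = -y := by
  rw [Coord.j, MonoidHom.comp_apply, MonoidHom.comp_apply, C.inj.eq_iff, QuotientGroup.mk'_apply,
    QuotientGroup.mk'_apply, QuotientGroup.eq, Matrix.SpecialLinearGroup.mem_center_iff]
  constructor
  · rintro ⟨r, hr, he⟩
    rw [Fintype.card_fin, sq_eq_one_iff] at hr
    have h1 : (x : Matrix (Fin 2) (Fin 2) F) * (Matrix.scalar (Fin 2) r) = y := by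
      rw [he, ← Matrix.SpecialLinearGroup.coe_mul, mul_inv_cancel_left]
    rcases hr with rfl | rfl
    · left; rw [← h1, map_one, mul_one]
    · right; rw [← h1, map_neg, map_one, mul_neg, mul_one, neg_neg]
  · intro h
    have h1 : (x⁻¹ : SL(2, F)).1 * x.1 = (1 : Matrix (Fin 2) (Fin 2) F) := by
      rw [← Matrix.SpecialLinearGroup.coe_mul, inv_mul_cancel, Matrix.SpecialLinearGroup.coe_one]
    rcases h with h | h
    · exact ⟨1, one_pow _, by rw [map_one, Matrix.SpecialLinearGroup.coe_mul, ← h, h1]⟩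
    · refine ⟨-1, by simp, ?_⟩
      have h2 : (y : Matrix (Fin 2) (Fin 2) F) = -(x : Matrix (Fin 2) (Fin 2) F) := by rw [h, neg_neg]
      rw [map_neg, map_one, Matrix.SpecialLinearGroup.coe_mul, h2, mul_neg, h1]

theorem Coord.j_eq_of_quad {x y : SL(2, F)} (h : qpm (quad x.1) (quad y.1)) : C.j x = C.j y :=
  C.j_eq_iff.2 (qpm_quad.1 h)

theorem Coord.quad_of_j_eq {x y : SL(2, F)} (h : C.j x = C.j y) : qpm (quad x.1) (quad y.1) :=
  qpm_quad.2 (C.j_eq_iff.1 h)

theorem Coord.j_conj_iff {g x y : SL(2, F)} :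
    C.j g * C.j x * (C.j g)⁻¹ = C.j y ↔ qpm (qmul (quad g.1) (quad x.1)) (qmul (quad y.1) (quad g.1)) := by
  rw [← quad_mul, ← quad_mul, ← Matrix.SpecialLinearGroup.coe_mul, ← Matrix.SpecialLinearGroup.coe_mul,
    qpm_quad, ← C.j_eq_iff, map_mul, map_mul, mul_inv_eq_iff_eq_mul]

theorem Coord.j_comm_iff {g x : SL(2, F)} :
    C.j g * C.j x = C.j x * C.j g ↔ qpm (qmul (quad g.1) (quad x.1)) (qmul (quad x.1) (quad g.1)) := by
  rw [← C.j_conj_iff, mul_inv_eq_iff_eq_mul]

theorem Coord.j_pow_eq_one {x : SL(2, F)} {n : ℕ} (h : qpm (quad (x ^ n).1) (quad (1 : SL(2, F)).1)) :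
    C.j x ^ n = 1 := by
  rw [← map_pow, ← map_one C.j]; exact C.j_eq_of_quad h

/-! ### Elements as automorphisms -/

/-- `n` acts on the socle as `g`. -/
def Coord.Acts (n : A) (g : GL (Fin 2) F) : Prop :=
  ∀ x, n * C.j x * n⁻¹ = C.j (CfsgLib.KnownC.slConj g x)

theorem slConj_eq_of_mul_eq {g : GL (Fin 2) F} {x y : SL(2, F)}
    (h : g.1 * (x : Matrix (Fin 2) (Fin 2) F) = y.1 * g.1) : CfsgLib.KnownC.slConj g x = y :=
  Subtype.ext (by rw [CfsgLib.KnownC.slConj_coe, h, Units.mul_inv_cancel_right])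

theorem Coord.Acts.mul {n m : A} {g k : GL (Fin 2) F} (hn : C.Acts n g) (hm : C.Acts m k) :
    C.Acts (n * m) (g * k) := fun x => by
  rw [map_mul CfsgLib.KnownC.slConj, MulAut.mul_apply, ← hn, ← hm]
  group

theorem Coord.acts_one : C.Acts 1 1 := fun x => by
  rw [map_one CfsgLib.KnownC.slConj, MulAut.one_apply, one_mul, inv_one, mul_one]

theorem Coord.Acts.pow {n : A} {g : GL (Fin 2) F} (hn : C.Acts n g) : ∀ k : ℕ, C.Acts (n ^ k) (g ^ k)
  | 0 => by rw [pow_zero, pow_zero]; exact C.acts_one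
  | k + 1 => by rw [pow_succ, pow_succ]; exact Coord.Acts.mul C (Coord.Acts.pow hn k) hn

theorem Coord.acts_j (x : SL(2, F)) : C.Acts (C.j x) (Matrix.SpecialLinearGroup.toGL x) := fun y => by
  rw [CfsgLib.KnownC.slConj_toGL, MulAut.conj_apply, map_mul, map_mul, map_inv]

theorem Coord.Acts.unique (c : Core A S) {n m : A} {g : GL (Fin 2) F} (hn : C.Acts n g)
    (hm : C.Acts m g) : n = m := by
  have h : m⁻¹ * n ∈ centralizer (S : Set A) := mem_centralizer_iff.2 fun a ha => by
    obtain ⟨x, rfl⟩ := C.exists_j ha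
    have h1 := (hn x).trans (hm x).symm
    calc C.j x * (m⁻¹ * n) = m⁻¹ * (m * C.j x * m⁻¹) * n := by group
      _ = m⁻¹ * (n * C.j x * n⁻¹) * n := by rw [h1]
      _ = m⁻¹ * n * C.j x := by group
  rw [c.cent, mem_bot, inv_mul_eq_one] at h
  exact h.symm

theorem Coord.Acts.eq_one_of_scalar (c : Core A S) {n : A} {g : GL (Fin 2) F} (hn : C.Acts n g) (a : F)
    (hg : g.1 = Matrix.scalar (Fin 2) a) : n = 1 := by
  refine Coord.Acts.unique C c hn fun x => ?_
  rw [one_mul, inv_one, mul_one, slConj_eq_of_mul_eq (y := x)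
    (by rw [hg]; exact (Matrix.scalar_commute a (fun r => Commute.all a r) x.1).eq)]

theorem Coord.Acts.ne_one {n : A} {g : GL (Fin 2) F} (hn : C.Acts n g) {x : SL(2, F)}
    (h : ¬ qpm (qmul (quad g.1) (quad x.1)) (qmul (quad x.1) (quad g.1))) : n ≠ 1 := by
  rintro rfl
  have hn' := hn x
  rw [one_mul, inv_one, mul_one] at hn'
  refine h ?_
  set y := CfsgLib.KnownC.slConj g x with hy
  have h2 : g.1 * (x : Matrix (Fin 2) (Fin 2) F) = y.1 * g.1 := by
    rw [hy, CfsgLib.KnownC.slConj_coe, Units.inv_mul_cancel_right]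
  rw [← quad_mul, ← quad_mul, qpm_quad, h2]
  rcases C.j_eq_iff.1 hn' with e | e
  · left; rw [e]
  · right; rw [e, neg_mul, neg_neg]

/-- A subgroup of the socle that is not the whole of it has a normalizer not containing it. -/
theorem Coord.not_le_normalizer (c : Core A S) {V : Subgroup A} (hV : V ≠ ⊥) (hVS : V ≤ S) {k : A}
    (hk : k ∈ S) (hkV : k ∉ V) : ¬ S ≤ normalizer (V : Set A) := fun h => by
  haveI := c.simple
  haveI : (V.subgroupOf S).Normal := normal_subgroupOf_iff_le_normalizer hVS |>.2 h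
  rcases Normal.eq_bot_or_eq_top (H := V.subgroupOf S) inferInstance with e | e
  · refine hV (eq_bot_iff.2 fun v hv => mem_bot.2 ?_)
    have h1 : (⟨v, hVS hv⟩ : S) ∈ V.subgroupOf S := hv
    rw [e, mem_bot] at h1
    exact congrArg Subtype.val h1
  · exact hkV (subgroupOf_eq_top.1 e hk)

end CfsgLib.FGS.MaxNorm
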