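import Cfsg.Agent.Lib.FGS.MaxNormalizer.ThirteenCoord

/-!
S4233, piece B6: the field has prime order `5`, `7`, `11` or `13`.
-/

set_option autoImplicit false
set_option linter.unusedSectionVars false
set_option linter.style.haveILetI false

namespace CfsgLib.FGS.MaxNorm

open Subgroup
open scoped MatrixGroups

universe u

variable {A : Type u} [Group A] [Finite A] {S : Subgroup A} {F : Type} [Field F] [Fintype F]

/-- Upper unitriangular matrices. -/
def upp (b : F) : SL(2, F) := ⟨!![1, b; 0, 1], by simp [Matrix.det_fin_two]⟩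

/-- Diagonal matrices. -/
def dia (a : Fˣ) : SL(2, F) := ⟨!![(a : F), 0; 0, (↑a⁻¹ : F)], by simp [Matrix.det_fin_two]⟩

theorem upp_mul (b c : F) : upp b * upp c = upp (b + c) := by
  refine Subtype.ext ?_
  rw [Matrix.SpecialLinearGroup.coe_mul]
  ext i j
  fin_cases i <;> fin_cases j <;> simp [upp, Matrix.mul_apply, Fin.sum_univ_two, add_comm]

/-- The unipotent subgroup. -/
def uppHom : Multiplicative F →* SL(2, F) :=
  MonoidHom.mk' (fun b => upp b.toAdd) fun _ _ => (upp_mul _ _).symm

theorem upp_pow (b : F) (n : ℕ) : upp b ^ n = upp (n • b) := by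
  rw [show upp b = uppHom (Multiplicative.ofAdd b) from rfl, ← map_pow, ← ofAdd_nsmul]
  rfl

variable (C : Coord S F)

include C in
/-- The field has prime order. -/
theorem Coord.card_prime (c : Core A S) (h4 : 4 ≤ Fintype.card F) :
    (Fintype.card F).Prime ∧ 5 ≤ Fintype.card F := by
  obtain ⟨p, hchar⟩ := CharP.exists F
  obtain ⟨f, hp, hq⟩ := FiniteField.card F p
  haveI := Fact.mk hp
  set u := C.j (upp 1) with hu
  set E := ((C.j).comp uppHom).range with hE
  have hpow : ∀ b : F, C.j (upp b) ^ p = 1 := fun b => by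
    rw [← map_pow, upp_pow, nsmul_eq_mul, CharP.cast_eq_zero, zero_mul,
      show upp (0 : F) = 1 from map_one uppHom, map_one]
  have hu1 : u ≠ 1 := fun e => by
    rw [hu, ← map_one C.j, C.j_eq_iff] at e
    rcases e with e | e <;> simpa [upp] using congrFun (congrFun e 0) 1
  have huo : orderOf u = p := orderOf_eq_prime (hpow 1) hu1
  obtain ⟨hu2, hu3⟩ := Core.zpowers_two_primes c hp.isPrimePow huo
  have huE : u ∈ E := ⟨Multiplicative.ofAdd 1, rfl⟩
  have hEp : IsPGroup p E := fun x => ⟨1, Subtype.ext (by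
    obtain ⟨b, hb⟩ := x.2
    show (x : A) ^ p ^ 1 = 1
    rw [pow_one, ← hb]
    exact hpow _)⟩
  have hcomm : ∀ x ∈ E, x * u = u * x := by
    rintro _ ⟨b, rfl⟩
    rw [show u = C.j.comp uppHom (Multiplicative.ofAdd 1) from rfl, ← map_mul, ← map_mul, mul_comm b]
  have hle : normalizer (zpowers u : Set A) ≤ normalizer (E : Set A) := fun n hn =>
    CfsgLib.Invol.mem_normalizer_iff_of_finite fun x hx => by
      have hxS : x ∈ S := by obtain ⟨b, rfl⟩ := hx; exact C.j_mem _
      obtain ⟨g, hg⟩ := C.exists_j (c.normal.conj_mem x hxS n)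
      have hc : n * x * n⁻¹ * u = u * (n * x * n⁻¹) := by
        obtain ⟨i, hi⟩ := mem_zpowers_iff.1
          ((mem_normalizer_iff.1 (inv_mem hn) u).1 (mem_zpowers u))
        have h1 : Commute x (u ^ i) := Commute.zpow_right (hcomm x hx) i
        rw [hi] at h1
        calc n * x * n⁻¹ * u = n * (x * (n⁻¹ * u * n⁻¹⁻¹)) * n⁻¹ := by group
          _ = n * ((n⁻¹ * u * n⁻¹⁻¹) * x) * n⁻¹ := by rw [h1.eq]
          _ = u * (n * x * n⁻¹) := by group
      rw [← hg] at hc ⊢
      have h2 : qpm (qmul (quad g.1) (quad (upp (1 : F)).1)) (qmul (quad (upp (1 : F)).1) (quad g.1)) :=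
        C.j_comm_iff.1 hc
      have hdet : g.1 0 0 * g.1 1 1 - g.1 0 1 * g.1 1 0 = 1 := by
        rw [← Matrix.det_fin_two]; exact g.2
      simp only [qpm, qmul, qneg, quad, upp, Prod.mk.injEq, Matrix.cons_val', Matrix.cons_val_zero,
        Matrix.cons_val_one, Matrix.of_apply, Matrix.cons_val_fin_one, mul_zero, mul_one, one_mul,
        zero_mul, add_zero, zero_add] at h2
      have hkey : g.1 1 0 = 0 ∧ g.1 0 0 = g.1 1 1 := by
        rcases h2 with ⟨e1, e2, e3, e4⟩ | ⟨e1, e2, e3, e4⟩
        · refine ⟨by linear_combination -e1, ?_⟩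
          linear_combination e2
        · by_cases h2' : (2 : F) = 0
          · refine ⟨?_, ?_⟩
            · linear_combination e1 - h2' * (g.1 0 0)
            · linear_combination e2 - h2' * (g.1 0 1 + g.1 1 1)
          · have h10 : g.1 1 0 = 0 :=
              (mul_eq_zero.1 (show (2 : F) * g.1 1 0 = 0 by linear_combination e3)).resolve_left h2'
            have h00 : g.1 0 0 = 0 :=
              (mul_eq_zero.1 (show (2 : F) * g.1 0 0 = 0 by linear_combination e1 - h10)).resolve_left h2'
            rw [h10, h00] at hdet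
            simp at hdet
      have hsq : g.1 1 1 = 1 ∨ g.1 1 1 = -1 := by
        rw [hkey.1, hkey.2, mul_zero, sub_zero] at hdet
        exact mul_self_eq_one_iff.1 hdet
      rcases hsq with e | e
      · refine ⟨Multiplicative.ofAdd (g.1 0 1), C.j_eq_iff.2 (Or.inl ?_)⟩
        show (upp (g.1 0 1)).1 = g.1
        ext i j
        fin_cases i <;> fin_cases j <;> simp [upp, hkey.1, hkey.2, e]
      · refine ⟨Multiplicative.ofAdd (-g.1 0 1), C.j_eq_iff.2 (Or.inr ?_)⟩
        show (upp (-g.1 0 1)).1 = -g.1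
        ext i j
        fin_cases i <;> fin_cases j <;> simp [upp, hkey.1, hkey.2, e]
  have hEbot : E ≠ ⊥ := fun e => hu1 (mem_bot.1 (e ▸ huE))
  have hE2 : TwoPrimes E := by
    obtain ⟨i, hi⟩ := IsPGroup.iff_card.1 hEp
    exact twoPrimes_of_dvd (i := i) (j := 0) hp hp (by simp [hi])
  have heq := c.eq_of_le hu2 hu3 hle (c.normalizer_ne_top hEbot hE2)
  have hfrob : ∀ a : Fˣ, ((a : F) * a) ^ p = (a : F) * a := fun a => by
    have hn : C.j (dia a) ∈ normalizer (E : Set A) :=
      CfsgLib.Invol.mem_normalizer_iff_of_finite fun x hx => by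
        obtain ⟨b, rfl⟩ := hx
        refine ⟨Multiplicative.ofAdd ((a : F) * a * b.toAdd), ?_⟩
        show C.j (upp _) = C.j (dia a) * C.j (upp b.toAdd) * (C.j (dia a))⁻¹
        rw [eq_mul_inv_iff_mul_eq, ← map_mul, ← map_mul]
        congr 1
        refine Subtype.ext ?_
        rw [Matrix.SpecialLinearGroup.coe_mul, Matrix.SpecialLinearGroup.coe_mul]
        ext i j
        fin_cases i <;> fin_cases j <;> simp [upp, dia, Matrix.mul_apply, Fin.sum_univ_two]
        field_simp
    rw [← heq] at hn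
    obtain ⟨k, hk⟩ := mem_zpowers_iff.1 ((mem_normalizer_iff.1 hn u).1 (mem_zpowers u))
    rw [show u = (C.j).comp uppHom (Multiplicative.ofAdd 1) from rfl, ← map_zpow, ← ofAdd_zsmul,
      zsmul_one] at hk
    have hk' : C.j (dia a) * C.j (upp 1) = C.j (upp (k : F)) * C.j (dia a) := by
      rw [← mul_inv_eq_iff_eq_mul]
      exact hk.symm
    rw [← map_mul, ← map_mul, C.j_eq_iff, Matrix.SpecialLinearGroup.coe_mul,
      Matrix.SpecialLinearGroup.coe_mul] at hk'
    have hkk : ((k : F)) ^ p = (k : F) := by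
      rw [← frobenius_def, map_intCast]
    rcases hk' with e | e
    · have e' := congrFun (congrFun e 0) 1
      simp [upp, dia, Matrix.mul_apply, Fin.sum_univ_two] at e'
      have : (a : F) * a = (k : F) := by
        nth_rw 1 [e']
        rw [mul_assoc, inv_mul_cancel₀ a.ne_zero, mul_one]
      rw [this, hkk]
    · have e0 := congrFun (congrFun e 0) 0
      have e' := congrFun (congrFun e 0) 1
      simp [upp, dia, Matrix.mul_apply, Fin.sum_univ_two] at e0 e'
      have hneg : (-1 : F) = 1 := by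
        have := e0
        exact mul_right_cancel₀ a.ne_zero (by linear_combination -this)
      have : (a : F) * a = (k : F) := by
        have h' : (a : F) = (k : F) * (↑a)⁻¹ := by linear_combination e' + hneg * ((k : F) * (↑a)⁻¹)
        nth_rw 1 [h']
        rw [mul_assoc, inv_mul_cancel₀ a.ne_zero, mul_one]
      rw [this, hkk]
  obtain ⟨a, ha⟩ := IsCyclic.exists_generator (α := Fˣ)
  have hord : orderOf a = Fintype.card F - 1 := by
    rw [orderOf_eq_card_of_forall_mem_zpowers ha, Nat.card_units, Nat.card_eq_fintype_card]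
  have hdvd : Fintype.card F - 1 ∣ 2 * (p - 1) := by
    rw [← hord]
    refine orderOf_dvd_of_pow_eq_one (Units.ext ?_)
    rw [Units.val_pow_eq_pow_val, Units.val_one, pow_mul, pow_two]
    have h1 := hfrob a
    have h2 : ((a : F) * a) ≠ 0 := mul_ne_zero a.ne_zero a.ne_zero
    refine mul_right_cancel₀ h2 ?_
    rw [← pow_succ, Nat.sub_add_cancel hp.one_le, h1, one_mul]
  have hle' := Nat.le_of_dvd (by have := hp.two_le; omega) hdvd
  rw [hq] at h4 hle' ⊢
  have hf : (f : ℕ) = 1 := by
    by_contra hne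
    have h2f : 2 ≤ (f : ℕ) := by have := f.pos; omega
    have h3 : p ^ 2 ≤ p ^ (f : ℕ) := Nat.pow_le_pow_right hp.pos h2f
    have := hp.two_le
    nlinarith [Nat.sub_add_cancel hp.one_le, Nat.sub_add_cancel (show 1 ≤ p ^ (f : ℕ) by omega)]
  rw [hf, pow_one] at h4 ⊢
  refine ⟨hp, ?_⟩
  by_contra hne
  have : p = 4 := by omega
  subst this
  norm_num at hp

/-- An inverting element of a dihedral group. -/
theorem orderOf_eq_two_of_dihedral {n : ℕ} (hn : 3 ≤ n) {G : Type*} [Group G] {r s : G}
    (hr : orderOf r = n) (hinv : s * r * s⁻¹ = r⁻¹)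
    (e : Subgroup.closure ({r, s} : Set G) ≃* DihedralGroup n) : orderOf s = 2 := by
  haveI : NeZero n := ⟨by omega⟩
  set H := Subgroup.closure ({r, s} : Set G)
  let r' : H := ⟨r, subset_closure (by simp)⟩
  let s' : H := ⟨s, subset_closure (by simp)⟩
  have hr' : orderOf (e r') = n := by rw [MulEquiv.orderOf_eq, Subgroup.orderOf_mk, hr]
  have hinv' : e s' * e r' * (e s')⁻¹ = (e r')⁻¹ := by
    rw [← map_inv, ← map_inv, ← map_mul, ← map_mul]; exact congrArg e (Subtype.ext hinv)
  rw [← Subgroup.orderOf_mk s (subset_closure (by simp) : s ∈ H), ← MulEquiv.orderOf_eq e]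
  show orderOf (e s') = 2
  rcases hd : e s' with i | i
  · exfalso
    rcases hd' : e r' with j | j
    · rw [hd, hd'] at hinv'
      have h2 : orderOf (e r') ∣ 2 := by
        refine orderOf_dvd_of_pow_eq_one ?_
        rw [hd', pow_two]
        have h3 : DihedralGroup.r i * DihedralGroup.r j * (DihedralGroup.r i)⁻¹ = DihedralGroup.r j := by
          rw [DihedralGroup.r_mul_r, add_comm, ← DihedralGroup.r_mul_r, mul_inv_cancel_right]
        rw [h3] at hinv'
        nth_rw 1 [hinv']
        exact inv_mul_cancel _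
      rw [hr'] at h2
      have := Nat.le_of_dvd two_pos h2
      omega
    · rw [hd', DihedralGroup.orderOf_sr] at hr'
      omega
  · exact DihedralGroup.orderOf_sr i

include C in
/-- Only four primes remain. -/
theorem Coord.card_cases (c : Core A S) (h4 : 4 ≤ Fintype.card F) :
    Fintype.card F = 5 ∨ Fintype.card F = 7 ∨ Fintype.card F = 11 ∨ Fintype.card F = 13 := by
  obtain ⟨hp, h5⟩ := C.card_prime c h4
  have hodd : Fintype.card F % 2 = 1 :=
    Nat.odd_iff.1 (hp.odd_of_ne_two (by omega))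
  have hgcd : Nat.gcd 2 (Fintype.card F - 1) = 2 := Nat.gcd_eq_left (by omega)
  obtain ⟨n, hn, r, s, hr, hinv, ⟨e⟩, h3⟩ : ∃ n, (n = (Fintype.card F - 1) / 2 ∨ n = (Fintype.card F + 1) / 2) ∧
      ∃ r s : Matrix.ProjectiveSpecialLinearGroup (Fin 2) F, orderOf r = n ∧ s * r * s⁻¹ = r⁻¹ ∧
        Nonempty (Subgroup.closure ({r, s} : Set (Matrix.ProjectiveSpecialLinearGroup (Fin 2) F)) ≃*
          DihedralGroup n) ∧ 3 ∣ n := by
    have h3p : Fintype.card F % 3 ≠ 0 := fun e => by
      have := (hp.eq_one_or_self_of_dvd 3 (Nat.dvd_of_mod_eq_zero e)); omega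
    by_cases h1 : Fintype.card F % 3 = 1
    · obtain ⟨r, s, hr, hinv, he, -, -⟩ := CfsgLib.Classical.exists_dihedral_split (F := F) h4
      rw [hgcd] at hr he
      exact ⟨_, Or.inl rfl, r, s, hr, hinv, he, by omega⟩
    · obtain ⟨r, s, hr, hinv, he, -, -⟩ := CfsgLib.Classical.exists_dihedral_nonsplit (F := F)
      rw [hgcd] at hr he
      exact ⟨_, Or.inr rfl, r, s, hr, hinv, he, by omega⟩
  have hn3 : 3 ≤ n := by rcases hn with rfl | rfl <;> omega
  have hs := orderOf_eq_two_of_dihedral hn3 hr hinv e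
  have hord : orderOf (C.ψ r) = n := by rw [orderOf_injective C.ψ C.inj, hr]
  have hn0 : n ≠ 0 := by omega
  have hd := c.dvd_two (y := C.ψ r) (s := C.ψ s) (by rw [orderOf_injective C.ψ C.inj, hs])
    (by rw [← map_inv, ← map_inv, ← map_mul, ← map_mul, hinv]) (d := n / 3)
    (by rw [hord]; exact Nat.div_dvd_of_dvd h3)
    (by rw [hord, Nat.div_div_self h3 hn0]; exact Nat.prime_three.isPrimePow)
    (by rw [hord, Nat.div_div_self h3 hn0])
  have := Nat.le_of_dvd two_pos hd
  rcases hn with rfl | rfl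
  all_goals
    have hle : Fintype.card F ≤ 13 := by omega
    interval_cases hq : Fintype.card F <;> first | omega | (exfalso; revert hp; norm_num)

end CfsgLib.FGS.MaxNorm
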